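import Groth.Agent.Lead.Flasque.Top
import Mathlib.Topology.Irreducible
import Mathlib.CategoryTheory.Sites.LocallyBijective

/-!
Constant sheaves on irreducible spaces are flasque.
-/

set_option autoImplicit false

universe u

open CategoryTheory Limits Opposite TopologicalSpace

namespace Groth.Agent.Lead.Flasque.Top

theorem subsingleton_sections_bot {X : TopCat.{u}} (F : CohTop.Ab X) :
    Subsingleton (F.obj.obj (op (⊥ : Opens X))) := by
  refine ⟨fun a b => TopCat.Sheaf.eq_of_locally_eq' (X := X) F (fun i : PEmpty.{u + 1} => PEmpty.elim i) ⊥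
    (fun i => PEmpty.elim i) bot_le a b fun i => PEmpty.elim i⟩

theorem isFlasque_const {X : TopCat.{u}} [IrreducibleSpace X] (A : Type u) [AddCommGroup A] :
    TopCat.Sheaf.IsFlasque (CohTop.const X A) := by
  classical
  let J := Opens.grothendieckTopology X
  let P : (Opens X)ᵒᵖ ⥤ AddCommGrpCat.{u} := (Functor.const _).obj (AddCommGrpCat.of A)
  let η : P ⟶ (CohTop.const X A).obj := toSheafify J P
  haveI : Presheaf.IsLocallyInjective J η := inferInstanceAs (Presheaf.IsLocallyInjective J (toSheafify J P))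
  haveI : Presheaf.IsLocallySurjective J η := inferInstanceAs (Presheaf.IsLocallySurjective J (toSheafify J P))
  have hinj : ∀ (U : Opens X) (x : X), x ∈ U → Function.Injective (η.app (op U)) := by
    intro U x hx a b hab
    obtain ⟨V, f, hf, hxV⟩ := Presheaf.equalizerSieve_mem J η a b hab x hx
    exact hf
  have hne : ∀ (U V : Opens X), (∃ x, x ∈ U) → (∃ x, x ∈ V) → ∃ x, x ∈ U ∧ x ∈ V := by
    rintro U V ⟨x, hx⟩ ⟨y, hy⟩
    obtain ⟨z, hz⟩ := nonempty_preirreducible_inter U.2 V.2 ⟨x, hx⟩ ⟨y, hy⟩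
    exact ⟨z, hz⟩
  have hsurj : ∀ (U : Opens X) (x : X), x ∈ U → Function.Surjective (η.app (op U)) := by
    intro U x hx s
    have hloc : ∀ y ∈ U, ∃ (V : Opens X) (h : V ≤ U), y ∈ V ∧
        ∃ a : A, η.app (op V) a = (CohTop.const X A).obj.map (homOfLE h).op s := by
      intro y hy
      obtain ⟨V, f, ⟨a, ha⟩, hyV⟩ := Presheaf.imageSieve_mem J η s y hy
      exact ⟨V, leOfHom f, hyV, a, ha⟩
    choose V hV hyV a ha using hloc
    refine ⟨a x hx, ?_⟩
    refine TopCat.Sheaf.eq_of_locally_eq' (X := X) (CohTop.const X A)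
      (fun y : U => V y.1 y.2) U (fun y => homOfLE (hV y.1 y.2))
      (fun y hy => TopologicalSpace.Opens.mem_iSup.2 ⟨⟨y, hy⟩, hyV y hy⟩) _ _ (fun y => ?_)
    obtain ⟨z, hz⟩ := hne (V y.1 y.2) (V x hx) ⟨y.1, hyV y.1 y.2⟩ ⟨x, hyV x hx⟩
    let W : Opens X := V y.1 y.2 ⊓ V x hx
    have e1 : a y.1 y.2 = a x hx := by
      refine hinj W z hz ?_
      have h1 := congrArg ((CohTop.const X A).obj.map (homOfLE (inf_le_left : W ≤ V y.1 y.2)).op) (ha y.1 y.2)
      have h2 := congrArg ((CohTop.const X A).obj.map (homOfLE (inf_le_right : W ≤ V x hx)).op) (ha x hx)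
      rw [← ConcreteCategory.comp_apply, ← η.naturality, ← Functor.map_comp_apply] at h1 h2
      exact h1.trans h2.symm
    refine Eq.trans ?_ (ha y.1 y.2)
    rw [e1]
    exact (ConcreteCategory.congr_hom (η.naturality (homOfLE (hV y.1 y.2)).op) (a x hx)).symm
  constructor
  intro U V i
  rw [AddCommGrpCat.epi_iff_surjective]
  intro t
  by_cases hV : ∃ x, x ∈ V.unop
  · obtain ⟨x, hx⟩ := hV
    obtain ⟨b, rfl⟩ := hsurj V.unop x hx t
    exact ⟨η.app U b, (ConcreteCategory.congr_hom (η.naturality i) b).symm⟩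
  · obtain rfl : V = op ⊥ := by
      refine Opposite.unop_injective ?_
      ext x
      simp only [unop_op, Opens.coe_bot, Set.mem_empty_iff_false, iff_false, SetLike.mem_coe]
      exact fun h => hV ⟨x, h⟩
    haveI := subsingleton_sections_bot (CohTop.const X A)
    exact ⟨0, Subsingleton.elim _ _⟩

end Groth.Agent.Lead.Flasque.Top
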