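import Groth.Agent.Lead.Flasque.Push
import Groth.Agent.Lead.Flasque.Const
import Mathlib.CategoryTheory.Abelian.Exact

/-!
Direct image along a closed embedding is exact.
-/

set_option autoImplicit false

universe u

open CategoryTheory Limits Opposite TopologicalSpace

namespace Groth.Agent.Lead.Flasque.Top

variable {X Y : TopCat.{u}}

theorem preservesEpimorphisms_push (f : X ⟶ Y) (hf : Topology.IsClosedEmbedding f) :
    (CohTop.push f).PreservesEpimorphisms := by
  refine ⟨fun {F G} φ hφ => ?_⟩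
  refine (TopCat.Sheaf.isLocallySurjective_iff_epi (X := Y) _).1 ((TopCat.Presheaf.isLocallySurjective_iff _).2 ?_)
  intro U s y hy
  by_cases hr : y ∈ Set.range f
  · obtain ⟨x, rfl⟩ := hr
    have hs : TopCat.Presheaf.IsLocallySurjective φ.hom := (TopCat.Sheaf.isLocallySurjective_iff_epi (X := X) _).2 hφ
    obtain ⟨W, hW, ⟨t, ht⟩, hxW⟩ := (TopCat.Presheaf.isLocallySurjective_iff _).1 hs ((Opens.map f).obj U) s x hy
    obtain ⟨W', hW', hWW'⟩ := hf.isInducing.isOpen_iff.1 W.2
    let V : Opens Y := ⟨W', hW'⟩ ⊓ U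
    have hVW : (Opens.map f).obj V ≤ W := fun z hz => by
      have : z ∈ f ⁻¹' W' := hz.1
      rwa [hWW'] at this
    refine ⟨V, inf_le_right, ⟨(F.obj.map (homOfLE hVW).op) t, ?_⟩, ⟨?_, hy⟩⟩
    · show φ.hom.app (op ((Opens.map f).obj V)) ((F.obj.map (homOfLE hVW).op) t) = G.obj.map _ s
      rw [NatTrans.naturality_apply, ht]
      exact ((G.obj.map_comp (homOfLE hW).op (homOfLE hVW).op) ▸ rfl : G.obj.map (homOfLE hVW).op (G.obj.map (homOfLE hW).op s) = G.obj.map ((homOfLE hW).op ≫ (homOfLE hVW).op) s)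
    · have : x ∈ f ⁻¹' W' := by rw [hWW']; exact hxW
      exact this
  · refine ⟨U ⊓ ⟨(Set.range f)ᶜ, hf.isClosed_range.isOpen_compl⟩, inf_le_left, ⟨0, ?_⟩, ⟨hy, hr⟩⟩
    have e : (Opens.map f).obj (U ⊓ ⟨(Set.range f)ᶜ, hf.isClosed_range.isOpen_compl⟩) = ⊥ :=
      le_bot_iff.1 fun z hz => hz.2 ⟨z, rfl⟩
    haveI := subsingleton_sections_bot G
    haveI : Subsingleton (G.obj.obj (op ((Opens.map f).obj (U ⊓ ⟨(Set.range f)ᶜ, hf.isClosed_range.isOpen_compl⟩)))) := by
      rw [e]; infer_instance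
    exact @Subsingleton.elim _ this _ _

theorem preservesHomology_push (f : X ⟶ Y) (hf : Topology.IsClosedEmbedding f) :
    (CohTop.push f).PreservesHomology := by
  haveI := preservesEpimorphisms_push f hf
  haveI : PreservesLimitsOfSize.{0, 0} (CohTop.push f) :=
    (TopCat.Sheaf.pullbackPushforwardAdjunction AddCommGrpCat.{u} f).rightAdjoint_preservesLimits
  exact Functor.preservesHomology_of_preservesEpis_and_kernels _

theorem isZero_Rpush_of_closed (f : X ⟶ Y) (hf : Topology.IsClosedEmbedding f) (F : CohTop.Ab X) (q : ℕ) :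
    IsZero ((CohTop.Rpush f (q + 1)).obj F) := by
  haveI := preservesHomology_push f hf
  let I := injectiveResolution F
  refine IsZero.of_iso ?_ (I.isoRightDerivedObj (CohTop.push f) (q + 1))
  refine (HomologicalComplex.exactAt_iff_isZero_homology _ _).1 ?_
  rw [HomologicalComplex.exactAt_iff' _ q (q + 1) (q + 2) (by simp) (by simp only [CochainComplex.next]; rfl)]
  exact (I.exact_succ q).map (CohTop.push f)

end Groth.Agent.Lead.Flasque.Top
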