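import Groth.Agent.Lead.Flasque.ExtCompute
import Groth.Agent.Lead.Flasque.Closed

/-!
Cohomology of a direct image with vanishing higher direct images.
-/

set_option autoImplicit false

universe u

open CategoryTheory Limits Opposite TopologicalSpace

namespace Groth.Agent.Lead.Flasque.Top

variable {X Y : TopCat.{u}}

/-- maps out of the constant sheaf are global sections -/
noncomputable def constEquiv (G : CohTop.Ab X) :
    ((constantSheaf (Opens.grothendieckTopology X) AddCommGrpCat.{u}).obj (AddCommGrpCat.of (ULift ℤ)) ⟶ G) ≃+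
      G.obj.obj (op (⊤ : Opens X)) :=
  ((constantSheafAdj (Opens.grothendieckTopology X) AddCommGrpCat.{u} (isTerminalTop X).some).homAddEquiv _ G).trans
    (AddCommGrpCat.uliftZMultiplesAddEquiv _)

theorem constEquiv_comp {G G' : CohTop.Ab X}
    (g : (constantSheaf (Opens.grothendieckTopology X) AddCommGrpCat.{u}).obj (AddCommGrpCat.of (ULift ℤ)) ⟶ G)
    (φ : G ⟶ G') : constEquiv G' (g ≫ φ) = φ.hom.app (op ⊤) (constEquiv G g) := by
  simp only [constEquiv, AddEquiv.trans_apply]
  erw [Adjunction.homEquiv_naturality_right]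
  rfl

theorem injective_push (f : X ⟶ Y) (I : CohTop.Ab X) [Injective I] : Injective ((CohTop.push f).obj I) := by
  haveI : PreservesFiniteLimits (CohTop.pull f) := by
    haveI : PreservesFiniteLimits ((TopologicalSpace.Opens.map f).op.lan :
        (_ ⥤ AddCommGrpCat.{u}) ⥤ _) := lan_preservesFiniteLimits_of_flat _ (TopologicalSpace.Opens.map f)
    exact Functor.sheafPullbackConstruction.preservesFiniteLimits _ _ _ _
  haveI : (TopCat.Sheaf.pullback AddCommGrpCat.{u} f).PreservesMonomorphisms :=
    preservesMonomorphisms_of_preservesLimitsOfShape (CohTop.pull f)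
  exact (TopCat.Sheaf.pullbackPushforwardAdjunction AddCommGrpCat.{u} f).map_injective I ‹_›

theorem nonempty_leray (f : X ⟶ Y) (F : CohTop.Ab X) (h : ∀ q : ℕ, IsZero ((CohTop.Rpush f (q + 1)).obj F)) (p : ℕ) :
    Nonempty (CohTop.H F p ≃+ CohTop.H ((CohTop.push f).obj F) p) := by
  haveI : PreservesLimitsOfSize.{0, 0} (CohTop.push f) :=
    (TopCat.Sheaf.pullbackPushforwardAdjunction AddCommGrpCat.{u} f).rightAdjoint_preservesLimits
  let R := injectiveResolution F
  obtain ⟨R', hR'⟩ := ExtCompute.nonempty_mapResolution R (CohTop.push f) (fun J hJ => @injective_push _ _ f J hJ) h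
  obtain @⟨c, inj, hh, ι, q⟩ := R'
  subst hR'
  let R' : InjectiveResolution ((CohTop.push f).obj F) :=
    { cocomplex := ((CohTop.push f).mapHomologicalComplex (ComplexShape.up ℕ)).obj R.cocomplex, ι := ι, quasiIso := q, injective := inj }
  refine ExtCompute.nonempty_extCongr R R' (fun n => (constEquiv _).trans (constEquiv ((CohTop.push f).obj (R.cocomplex.X n))).symm) (fun n g => ?_) p
  apply (constEquiv _).injective
  show _ = constEquiv _ (_ ≫ (CohTop.push f).map (R.cocomplex.d n (n + 1)))
  rw [constEquiv_comp, AddEquiv.trans_apply, AddEquiv.trans_apply]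
  refine ((constEquiv _).apply_symm_apply _).trans ?_
  erw [AddEquiv.apply_symm_apply]
  rw [constEquiv_comp]
  rfl

end Groth.Agent.Lead.Flasque.Top
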