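import Groth.Agent.Lead.Flasque.DimShift
import Groth.Agent.Lead.Flasque.Leray
import Groth.Agent.OverExtend.KInjective
import Mathlib.Topology.Sheaves.Over
import Mathlib.CategoryTheory.Preadditive.AdditiveFunctor
import Mathlib.CategoryTheory.Sites.CoverLifting

/-!
Cohomology on an open subspace.
-/

set_option autoImplicit false

universe u

open CategoryTheory Limits Opposite TopologicalSpace

namespace Groth.Agent.Lead.Flasque.Top

variable {X : TopCat.{u}} (U : Opens X)

theorem restr_props :
    PreservesFiniteLimits (CohTop.restrFunctor U) ∧ PreservesFiniteColimits (CohTop.restrFunctor U) ∧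
      ∀ J : CohTop.Ab X, Injective J → Injective ((CohTop.restrFunctor U).obj J) := by
  let T := Opens.grothendieckTopology X
  let R₁ := T.overPullback AddCommGrpCat.{u} U
  let E := U.sheafEquivOver (A := AddCommGrpCat.{u})
  haveI : R₁.IsRightAdjoint := (OverExtend.KInjective.extendAdj T U).isRightAdjoint
  haveI : R₁.IsLeftAdjoint :=
    ((Over.forget U).sheafAdjunctionCocontinuous AddCommGrpCat.{u} (T.over U) T).isLeftAdjoint
  haveI : PreservesLimitsOfSize.{0, 0} R₁ := (Adjunction.ofIsRightAdjoint R₁).rightAdjoint_preservesLimits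
  haveI : PreservesColimitsOfSize.{0, 0} R₁ := (Adjunction.ofIsLeftAdjoint R₁).leftAdjoint_preservesColimits
  haveI hl : PreservesFiniteLimits R₁ := inferInstance
  haveI hc : PreservesFiniteColimits R₁ := inferInstance
  haveI : PreservesFiniteLimits (R₁ ⋙ E.functor) := inferInstance
  haveI : PreservesFiniteColimits (R₁ ⋙ E.functor) := inferInstance
  refine ⟨preservesFiniteLimits_of_natIso U.overPullbackSheafEquivOver,
    preservesFiniteColimits_of_natIso U.overPullbackSheafEquivOver, fun J hJ => ?_⟩
  haveI : (OverExtend.KInjective.extendPre U).Additive :=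
    (OverExtend.KInjective.extendPreAdj U).left_adjoint_additive
  haveI : (OverExtend.KInjective.extend T U).PreservesMonomorphisms := ⟨fun f _ => by
    haveI : Mono ((OverExtend.KInjective.extendPre U).map ((sheafToPresheaf (T.over U) AddCommGrpCat.{u}).map f)) :=
      (OverExtend.KInjective.extendPre_preservesMonomorphisms U).preserves _
    exact (presheafToSheaf T AddCommGrpCat.{u}).map_mono
      ((OverExtend.KInjective.extendPre U).map ((sheafToPresheaf (T.over U) AddCommGrpCat.{u}).map f))⟩
  have h₁ := (OverExtend.KInjective.extendAdj T U).map_injective J hJ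
  exact Injective.of_iso (U.overPullbackSheafEquivOver.app J) ((E.map_injective_iff _).2 h₁)

theorem freeEquiv_add (G : CohTop.Ab X) (g g' : freeSh.obj U ⟶ G) :
    freeEquiv U G (g + g') = freeEquiv U G g + freeEquiv U G g' := by
  have h : ∀ k : freeSh.obj U ⟶ G, freeEquiv U G k = k.hom.app (op U) (freeEquiv U _ (𝟙 _)) := fun k => by
    rw [← freeEquiv_comp, Category.id_comp]
  rw [h, h g, h g']
  rfl

theorem nonempty_HU_restr (F : CohTop.Ab X) (n : ℕ) :
    Nonempty (CohTop.HU F n U ≃+ CohTop.H (CohTop.restr F U) n) := by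
  obtain ⟨_, _, hinj⟩ := restr_props U
  have hU : U = (U.isOpenEmbedding.isOpenMap.functor.obj ⊤) := U.functor_map_eq_inf ⊤ |>.symm ▸ by simp
  refine DimShift.nonempty_extEquiv (X := freeSh.obj U) (CohTop.restrFunctor U)
    (fun Z => (({ freeEquiv U Z with map_add' := freeEquiv_add U Z } : (freeSh.obj U ⟶ Z) ≃+ Z.obj.obj (op U)).trans
      ((Z.obj.mapIso (eqToIso hU.symm).op).addCommGroupIsoToAddEquiv.trans (constEquiv (CohTop.restr Z U)).symm)))
    (fun {Z Z'} g φ => ?_) (fun J hJ k => ?_) n F
  · apply (constEquiv _).injective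
    rw [constEquiv_comp]
    simp only [AddEquiv.trans_apply]
    erw [AddEquiv.apply_symm_apply, AddEquiv.apply_symm_apply]
    show Z'.obj.map _ (freeEquiv U Z' (g ≫ φ)) = φ.hom.app _ (Z.obj.map _ (freeEquiv U Z g))
    rw [freeEquiv_comp]
    exact (NatTrans.naturality_apply φ.hom _ _).symm
  · haveI := hinj J hJ
    exact subsingleton_of_forall_eq 0 fun x => Abelian.Ext.eq_zero_of_injective x

end Groth.Agent.Lead.Flasque.Top
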