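import Groth.Agent.Lead.Flasque.ExtCompute
import Groth.Agent.Lead.Flasque.Restr
import Mathlib.Algebra.Homology.ShortComplex.Ab
import Mathlib.Algebra.Homology.ShortComplex.PreservesHomology
import Mathlib.CategoryTheory.Abelian.FunctorCategory

/-!
Derived functors of sections and higher direct images as cohomology presheaves.
-/

set_option autoImplicit false

universe w v u

open CategoryTheory Limits Opposite

namespace Groth.Agent.Lead.Flasque.Derived

variable {C : Type u} [Category.{v} C] {D : Type w} [Category.{max u v} D]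

theorem exact_of_evaluation [Abelian D] (S : ShortComplex (C ⥤ D))
    (h : ∀ U, (S.map ((evaluation C D).obj U)).Exact) : S.Exact := by
  rw [ShortComplex.exact_iff_isZero_homology]
  refine Functor.isZero _ fun U => ?_
  exact (((ShortComplex.exact_iff_isZero_homology _).1 (h U))).of_iso (S.mapHomologyIso ((evaluation C D).obj U)).symm

end Groth.Agent.Lead.Flasque.Derived

namespace Groth.Agent.Lead.Flasque.Top

open TopologicalSpace Abelian

universe u'

variable {X : TopCat.{u'}} {F : CohTop.Ab X} (R : InjectiveResolution F) (p : ℕ)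

/-- the complex of presheaves of sections -/
noncomputable abbrev secComplex : CochainComplex ((Opens X)ᵒᵖ ⥤ AddCommGrpCat.{u'}) ℕ :=
  ((sheafToPresheaf _ _).mapHomologicalComplex (ComplexShape.up ℕ)).obj R.cocomplex

theorem iCycles_d_apply (U : (Opens X)ᵒᵖ) (x : ((secComplex R).cycles p).obj U) :
    (R.cocomplex.d p (p + 1)).hom.app U (((secComplex R).iCycles p).app U x) = 0 :=
  ConcreteCategory.congr_hom (congrArg (fun t => NatTrans.app t U) ((secComplex R).iCycles_d p (p + 1))) x

theorem cocycle_condition (U : Opens X) (x : ((secComplex R).cycles p).obj (op U)) :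
    (freeEquiv U _).symm (((secComplex R).iCycles p).app (op U) x) ≫ R.cocomplex.d p (p + 1) = 0 := by
  apply (freeEquiv U _).injective
  rw [freeEquiv_comp, Equiv.apply_symm_apply, iCycles_d_apply]
  exact (map_zero (AddMonoidHom.mk' (freeEquiv U (R.cocomplex.X (p + 1))) (freeEquiv_add U _))).symm

/-- cycles to the cohomology presheaf -/
noncomputable def cyclesToCoh : (secComplex R).cycles p ⟶ Sheaf.cohomologyPresheaf.{u'} F p where
  app U := AddCommGrpCat.ofHom (AddMonoidHom.mk'
    (fun x => R.extMk ((freeEquiv U.unop _).symm (((secComplex R).iCycles p).app U x)) (p + 1) rfl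
      (cocycle_condition R p U.unop x))
    fun x y => by
      have e : (freeEquiv U.unop _).symm (((secComplex R).iCycles p).app U (x + y)) =
          (freeEquiv U.unop _).symm (((secComplex R).iCycles p).app U x) +
            (freeEquiv U.unop _).symm (((secComplex R).iCycles p).app U y) := by
        apply (freeEquiv U.unop _).injective
        rw [freeEquiv_add, Equiv.apply_symm_apply, Equiv.apply_symm_apply, Equiv.apply_symm_apply]
        exact map_add _ x y
      simp only [e]
      exact (R.add_extMk _ _ (p + 1) rfl (cocycle_condition R p _ x) (cocycle_condition R p _ y)).symm)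
  naturality U V i := by
    ext x
    show R.extMk _ (p + 1) rfl (cocycle_condition R p V.unop _) =
      (Ext.mk₀ (freeSh.map i.unop)).comp (R.extMk _ (p + 1) rfl (cocycle_condition R p U.unop x)) (zero_add p)
    rw [R.mk₀_comp_extMk]
    congr 1
    apply (freeEquiv V.unop _).injective
    rw [freeEquiv_map, Equiv.apply_symm_apply, Equiv.apply_symm_apply]
    exact NatTrans.naturality_apply ((secComplex R).iCycles p) i x

theorem exact_iCycles (U : (Opens X)ᵒᵖ) (s : (R.cocomplex.X p).obj.obj U)
    (hs : (R.cocomplex.d p (p + 1)).hom.app U s = 0) :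
    ∃ x, ((secComplex R).iCycles p).app U x = s := by
  have h : (ShortComplex.mk ((secComplex R).iCycles p) ((secComplex R).d p (p + 1))
      ((secComplex R).iCycles_d p (p + 1))).Exact :=
    ShortComplex.exact_of_f_is_kernel _ ((secComplex R).cyclesIsKernel p (p + 1) (by simp))
  exact (ShortComplex.ab_exact_iff _).1 (h.map ((evaluation _ _).obj U)) s hs

instance mono_iCycles_app (U : (Opens X)ᵒᵖ) : Mono (((secComplex R).iCycles p).app U) :=
  inferInstanceAs (Mono (((evaluation _ _).obj U).map ((secComplex R).iCycles p)))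

theorem epi_cyclesToCoh : Epi (cyclesToCoh R p) := by
  have : ∀ U, Epi ((cyclesToCoh R p).app U) := fun U => by
    rw [AddCommGrpCat.epi_iff_surjective]
    intro ξ
    obtain ⟨f, hf, rfl⟩ := R.extMk_surjective ξ (p + 1) rfl
    obtain ⟨x, hx⟩ := exact_iCycles R p U (freeEquiv U.unop _ f) (by
      rw [← freeEquiv_comp, hf]
      exact (map_zero (AddMonoidHom.mk' (freeEquiv U.unop (R.cocomplex.X (p + 1))) (freeEquiv_add _ _))))
    refine ⟨x, ?_⟩
    show R.extMk _ (p + 1) rfl (cocycle_condition R p U.unop x) = _
    congr 1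
    rw [hx, Equiv.symm_apply_apply]
  exact NatTrans.epi_of_epi_app _

theorem cyclesToCoh_eq_zero_iff (U : (Opens X)ᵒᵖ) (x : ((secComplex R).cycles p).obj U) :
    (cyclesToCoh R p).app U x = 0 ↔
      ∃ t, ((secComplex R).toCycles ((ComplexShape.up ℕ).prev p) p).app U t = x := by
  show R.extMk _ (p + 1) rfl (cocycle_condition R p U.unop x) = 0 ↔ _
  have hinj := (AddCommGrpCat.mono_iff_injective _).1 (mono_iCycles_app R p U)
  have hzero : ∀ (G : CohTop.Ab X), (freeEquiv U.unop G) 0 = 0 := fun G =>
    map_zero (AddMonoidHom.mk' (freeEquiv U.unop G) (freeEquiv_add U.unop G))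
  cases p with
  | zero =>
    rw [ExtCompute.extMk_eq_zero_iff_zero, CochainComplex.prev_nat_zero,
      show (secComplex R).toCycles 0 0 = 0 from by
        rw [← cancel_mono ((secComplex R).iCycles 0), HomologicalComplex.toCycles_i,
          HomologicalComplex.shape _ _ _ (by simp), zero_comp]]
    constructor
    · intro h
      refine ⟨0, hinj ?_⟩
      rw [map_zero, map_zero]
      rw [← Equiv.apply_symm_apply (freeEquiv U.unop _) (((secComplex R).iCycles 0).app U x)]
      exact (hzero _).symm.trans (congrArg _ h.symm)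
    · rintro ⟨t, rfl⟩
      apply (freeEquiv U.unop _).injective
      rw [Equiv.apply_symm_apply, hzero]
      exact map_zero _
  | succ m =>
    rw [R.extMk_eq_zero_iff _ _ _ _ m rfl, CochainComplex.prev_nat_succ]
    have key : ∀ t, ((secComplex R).iCycles (m + 1)).app U (((secComplex R).toCycles m (m + 1)).app U t) =
        (R.cocomplex.d m (m + 1)).hom.app U t := fun t =>
      ConcreteCategory.congr_hom (congrArg (fun a => NatTrans.app a U) ((secComplex R).toCycles_i m (m + 1))) t
    constructor
    · rintro ⟨g, hg⟩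
      refine ⟨freeEquiv U.unop _ g, hinj ?_⟩
      rw [key, ← freeEquiv_comp, hg, Equiv.apply_symm_apply]
    · rintro ⟨t, rfl⟩
      refine ⟨(freeEquiv U.unop _).symm t, (freeEquiv U.unop _).injective ?_⟩
      rw [freeEquiv_comp, Equiv.apply_symm_apply, Equiv.apply_symm_apply, key]

theorem nonempty_homology_iso : Nonempty ((secComplex R).homology p ≅ Sheaf.cohomologyPresheaf.{u'} F p) := by
  haveI := epi_cyclesToCoh R p
  have w : (secComplex R).toCycles ((ComplexShape.up ℕ).prev p) p ≫ cyclesToCoh R p = 0 := by
    ext U t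
    exact (cyclesToCoh_eq_zero_iff R p U _).2 ⟨t, rfl⟩
  have hS : (ShortComplex.mk _ _ w).Exact := Derived.exact_of_evaluation _ fun U =>
    (ShortComplex.ab_exact_iff _).2 fun x hx => (cyclesToCoh_eq_zero_iff R p U x).1 hx
  exact ⟨((secComplex R).homologyIsCokernel _ p rfl).coconePointUniqueUpToIso hS.gIsCokernel⟩

theorem nonempty_rightDerived_sheafToPresheaf (F : CohTop.Ab X) (p : ℕ) :
    Nonempty (((sheafToPresheaf (Opens.grothendieckTopology X) AddCommGrpCat.{u'}).rightDerived p).obj F ≅
      Sheaf.cohomologyPresheaf.{u'} F p) := by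
  obtain ⟨e⟩ := nonempty_homology_iso (injectiveResolution F) p
  exact ⟨(injectiveResolution F).isoRightDerivedObj _ p ≪≫ e⟩

/-- `R^i f_*` is the sheafification of the cohomology presheaf -/
theorem nonempty_Rpush_iso {Y : TopCat.{u'}} (f : X ⟶ Y) (F : CohTop.Ab X) (i : ℕ) :
    Nonempty ((CohTop.Rpush f i).obj F ≅
      (presheafToSheaf (Opens.grothendieckTopology Y) AddCommGrpCat.{u'}).obj
        ((Opens.map f).op ⋙ Sheaf.cohomologyPresheaf.{u'} F i)) := by
  let R := injectiveResolution F
  let W := (Functor.whiskeringLeft _ _ AddCommGrpCat.{u'}).obj (Opens.map f).op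
  let a := presheafToSheaf (Opens.grothendieckTopology Y) AddCommGrpCat.{u'}
  obtain ⟨e⟩ := nonempty_homology_iso R i
  let θ : sheafToPresheaf _ _ ⋙ W ⋙ a ≅ CohTop.push f :=
    Functor.isoWhiskerLeft (CohTop.push f) (asIso (sheafificationAdjunction _ _).counit) ≪≫ Functor.rightUnitor _
  haveI : (W ⋙ a).PreservesHomology := inferInstance
  exact ⟨R.isoRightDerivedObj (CohTop.push f) i ≪≫
    (HomologicalComplex.homologyFunctor _ _ i).mapIso ((NatIso.mapHomologicalComplex θ.symm _).app R.cocomplex) ≪≫
    ((secComplex R).sc i).mapHomologyIso (W ⋙ a) ≪≫ (W ⋙ a).mapIso e⟩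

end Groth.Agent.Lead.Flasque.Top
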