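import Groth.Agent.Lead.Flasque.DimShift
import Groth.Agent.Lead.Flasque.Derived

/-!
Global sections of an acyclic complex with acyclic cohomology sheaves.
-/

set_option autoImplicit false

universe u

open CategoryTheory Limits Opposite TopologicalSpace Abelian

namespace Groth.Agent.Lead.Flasque.Top

variable {Y : TopCat.{u}}

/-- acyclicity -/
abbrev Acyclic (G : CohTop.Ab Y) : Prop := ∀ k : ℕ, Subsingleton (CohTop.H G (k + 1))

/-- global sections -/
noncomputable abbrev Gamma : CohTop.Ab Y ⥤ AddCommGrpCat.{u} :=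
  sheafToPresheaf _ _ ⋙ (evaluation _ AddCommGrpCat.{u}).obj (op (⊤ : Opens Y))

theorem acyclic_of_iso {G G' : CohTop.Ab Y} (e : G ≅ G') (h : Acyclic G) : Acyclic G' := fun k => by
  haveI := h k
  refine ⟨fun a b => ?_⟩
  have key : ∀ c : CohTop.H G' (k + 1), c = (c.comp (Ext.mk₀ e.inv) (add_zero _)).comp (Ext.mk₀ e.hom) (add_zero _) := fun c => by
    rw [Ext.comp_assoc_of_second_deg_zero, Ext.mk₀_comp_mk₀, e.inv_hom_id, Ext.comp_mk₀_id]
  rw [key a, key b, Subsingleton.elim (a.comp (Ext.mk₀ e.inv) (add_zero _)) (b.comp (Ext.mk₀ e.inv) (add_zero _))]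

variable {S : ShortComplex (CohTop.Ab Y)}

theorem surjective_Gamma (hS : S.ShortExact) (h : Subsingleton (CohTop.H S.X₁ 1)) :
    Function.Surjective (Gamma.map S.g) := fun s => by
  obtain ⟨g, hg⟩ := (DimShift.delta_eq_zero_iff hS ((constEquiv _).symm s)).1 (Subsingleton.elim _ _)
  refine ⟨constEquiv _ g, ?_⟩
  show S.g.hom.app (op ⊤) (constEquiv _ g) = s
  rw [← constEquiv_comp, hg, AddEquiv.apply_symm_apply]

theorem acyclic_X₃ (hS : S.ShortExact) (h₁ : Acyclic S.X₁) (h₂ : Acyclic S.X₂) : Acyclic S.X₃ := fun k => by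
  refine subsingleton_of_forall_eq 0 fun x => ?_
  haveI := h₁ (k + 1)
  obtain ⟨y, rfl⟩ := Ext.covariant_sequence_exact₃ _ hS x (n₁ := k + 2) rfl (Subsingleton.elim _ _)
  haveI := h₂ k
  rw [Subsingleton.elim y 0, Ext.zero_comp]

theorem acyclic_X₂ (hS : S.ShortExact) (h₁ : Acyclic S.X₁) (h₃ : Acyclic S.X₃) : Acyclic S.X₂ := fun k => by
  refine subsingleton_of_forall_eq 0 fun x => ?_
  haveI := h₃ k
  obtain ⟨y, rfl⟩ := Ext.covariant_sequence_exact₂ _ hS x (Subsingleton.elim _ _)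
  haveI := h₁ k
  rw [Subsingleton.elim y 0, Ext.zero_comp]

theorem exact_Gamma {A B D : CohTop.Ab Y} (i : A ⟶ B) (g : B ⟶ D) (w : i ≫ g = 0) [Mono i]
    (hi : IsLimit (KernelFork.ofι i w)) (x : Gamma.obj B) (hx : Gamma.map g x = 0) : ∃ a, Gamma.map i a = x := by
  obtain ⟨a, ha⟩ := TopCat.Sheaf.sections_exact_of_left_exact (S := ShortComplex.mk i g w)
    (ShortComplex.exact_of_f_is_kernel _ hi) ‹Mono i› (U := ⊤) x hx
  exact ⟨a, ha⟩

variable (K : CochainComplex (CohTop.Ab Y) ℕ)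

/-- left homology data in degree `q + 1` -/
noncomputable abbrev lhd (q : ℕ) : (K.sc' q (q + 1) (q + 2)).LeftHomologyData :=
  ShortComplex.LeftHomologyData.ofHasKernelOfHasCokernel _

/-- the short exact sequence `0 → B → Z → H → 0` -/
noncomputable abbrev seqBZH (q : ℕ) : ShortComplex (CohTop.Ab Y) :=
  ShortComplex.mk (kernel.ι (lhd K q).π) (lhd K q).π (kernel.condition _)

theorem seqBZH_shortExact (q : ℕ) : (seqBZH K q).ShortExact :=
  ShortComplex.ShortExact.mk' (ShortComplex.exact_of_f_is_kernel _ (kernelIsKernel _))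
    (inferInstance : Mono (kernel.ι (lhd K q).π)) (inferInstance : Epi (lhd K q).π)

/-- the map onto the boundaries -/
noncomputable abbrev toB (q : ℕ) : K.X q ⟶ kernel (lhd K q).π :=
  kernel.lift _ (lhd K q).f' (lhd K q).f'_π

theorem toB_seq_shortExact (q : ℕ) :
    ∃ w : kernel.ι (K.d q (q + 1)) ≫ toB K q = 0, (ShortComplex.mk _ _ w).ShortExact := by
  have hd : toB K q ≫ kernel.ι (lhd K q).π ≫ (lhd K q).i = K.d q (q + 1) := by
    rw [kernel.lift_ι_assoc]
    exact (lhd K q).f'_i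
  haveI : Mono (kernel.ι (lhd K q).π ≫ (lhd K q).i) := mono_comp _ _
  have w : kernel.ι (K.d q (q + 1)) ≫ toB K q = 0 := by
    exact (cancel_mono (kernel.ι (lhd K q).π ≫ (lhd K q).i)).1 (((Category.assoc _ _ _).trans
      ((congrArg (kernel.ι _ ≫ ·) hd).trans (kernel.condition _))).trans zero_comp.symm)
  refine ⟨w, ShortComplex.ShortExact.mk' (ShortComplex.exact_of_f_is_kernel _
    (KernelFork.IsLimit.ofι' _ _ fun {W} k hk => ⟨kernel.lift _ k ?_, kernel.lift_ι _ _ _⟩))
    (inferInstance : Mono (kernel.ι (K.d q (q + 1)))) ?_⟩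
  · exact (congrArg (k ≫ ·) hd.symm).trans ((Category.assoc _ _ _).symm.trans ((congrArg (· ≫ _) hk).trans zero_comp))
  · exact (ShortComplex.exact_iff_epi_kernel_lift (ShortComplex.mk _ _ (lhd K q).f'_π)).1
      (ShortComplex.exact_of_g_is_cokernel _ (lhd K q).hπ)

theorem acyclic_cycles (hX : ∀ n, Acyclic (K.X n)) (hH : ∀ n, Acyclic (K.homology n)) :
    ∀ q, Acyclic (kernel (K.d q (q + 1))) := by
  intro q
  induction q with
  | zero =>
    exact acyclic_of_iso (K.isoHomologyπ₀.symm ≪≫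
      (K.cyclesIsKernel 0 1 (by simp)).conePointUniqueUpToIso (limit.isLimit _)) (hH 0)
  | succ q ih =>
    obtain ⟨w, hw⟩ := toB_seq_shortExact K q
    refine acyclic_X₂ (seqBZH_shortExact K q) (acyclic_X₃ hw ih (hX q)) ?_
    exact acyclic_of_iso (K.homologyIsoSc' q (q + 1) (q + 2) (by simp) (by simp only [CochainComplex.next]; rfl) ≪≫
      (lhd K q).homologyIso) (hH (q + 1))

theorem nonempty_Gamma_homology (hX : ∀ n, Acyclic (K.X n)) (hH : ∀ n, Acyclic (K.homology n)) (q : ℕ) :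
    Nonempty (((Gamma.mapHomologicalComplex (ComplexShape.up ℕ)).obj K).homology q ≅ Gamma.obj (K.homology q)) := by
  let L : CochainComplex AddCommGrpCat.{u} ℕ := (Gamma.mapHomologicalComplex (ComplexShape.up ℕ)).obj K
  haveI : PreservesFiniteLimits (Gamma : CohTop.Ab Y ⥤ _) := inferInstance
  cases q with
  | zero =>
    exact ⟨L.isoHomologyπ₀.symm ≪≫
      (L.cyclesIsKernel 0 1 (by simp)).conePointUniqueUpToIso
        (KernelFork.mapIsLimit _ (K.cyclesIsKernel 0 1 (by simp)) Gamma) ≪≫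
      Gamma.mapIso K.isoHomologyπ₀⟩
  | succ q =>
    obtain ⟨w, hw⟩ := toB_seq_shortExact K q
    haveI hB : Acyclic (kernel (lhd K q).π) := acyclic_X₃ hw (acyclic_cycles K hX hH q) (hX q)
    have w' : Gamma.map (lhd K q).f' ≫ Gamma.map (lhd K q).π = 0 := by
      rw [← Gamma.map_comp, (lhd K q).f'_π, Gamma.map_zero]
    have hex : (ShortComplex.mk _ _ w').Exact := (ShortComplex.ab_exact_iff _).2 fun x hx => by
      obtain ⟨b, hb⟩ := exact_Gamma (kernel.ι (lhd K q).π) (lhd K q).π (kernel.condition _) (kernelIsKernel (lhd K q).π) x hx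
      obtain ⟨t, ht⟩ := surjective_Gamma hw (acyclic_cycles K hX hH q 0) b
      refine ⟨t, ?_⟩
      rw [← hb, ← ht]
      show Gamma.map (lhd K q).f' t = (Gamma.map (toB K q) ≫ Gamma.map (kernel.ι (lhd K q).π)) t
      rw [← Gamma.map_comp, kernel.lift_ι]
      rfl
    haveI : Epi (Gamma.map (lhd K q).π) :=
      (AddCommGrpCat.epi_iff_surjective _).2 (surjective_Gamma (seqBZH_shortExact K q) (hB 0))
    haveI hpc : PreservesColimit (parallelPair (lhd K q).f' 0) Gamma :=
      preservesColimit_of_preserves_colimit_cocone (lhd K q).hπ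
        ((CokernelCofork.isColimitMapCoconeEquiv _ Gamma).symm hex.gIsCokernel)
    haveI : (lhd K q).IsPreservedBy Gamma := { g := inferInstance, f' := hpc }
    exact ⟨L.homologyIsoSc' q (q + 1) (q + 2) (by simp) (by simp only [CochainComplex.next]; rfl) ≪≫
      ((lhd K q).map Gamma).homologyIso ≪≫ Gamma.mapIso ((lhd K q).homologyIso.symm ≪≫
      (K.homologyIsoSc' q (q + 1) (q + 2) (by simp) (by simp only [CochainComplex.next]; rfl)).symm)⟩

theorem nonempty_H_iso_HU (F : CohTop.Ab Y) (n : ℕ) : Nonempty (CohTop.HU F n ⊤ ≃+ CohTop.H F n) := by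
  refine ExtCompute.nonempty_extCongr (injectiveResolution F) (injectiveResolution F)
    (fun m => ({ freeEquiv ⊤ _ with map_add' := freeEquiv_add ⊤ _ } : _ ≃+ ((injectiveResolution F).cocomplex.X m).obj.obj (op ⊤)).trans
      (constEquiv _).symm) (fun m g => ?_) n
  apply (constEquiv _).injective
  rw [constEquiv_comp]
  simp only [AddEquiv.trans_apply]
  erw [AddEquiv.apply_symm_apply, AddEquiv.apply_symm_apply]
  exact freeEquiv_comp _ _ _

theorem nonempty_leray_base {X : TopCat.{u}} (f : X ⟶ Y) (F : CohTop.Ab X)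
    (h : ∀ p q : ℕ, Subsingleton (CohTop.H ((CohTop.Rpush f q).obj F) (p + 1))) (q : ℕ) :
    Nonempty (CohTop.H F q ≃+ ((CohTop.Rpush f q).obj F).obj.obj (op ⊤)) := by
  let R := injectiveResolution F
  let K := ((CohTop.push f).mapHomologicalComplex (ComplexShape.up ℕ)).obj R.cocomplex
  have hX : ∀ n, Acyclic (K.X n) := fun n => by
    haveI : Injective (K.X n) := injective_push f (R.cocomplex.X n)
    exact fun k => subsingleton_of_forall_eq 0 fun x => Ext.eq_zero_of_injective x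
  obtain ⟨e⟩ := nonempty_Gamma_homology K hX
    (fun n => acyclic_of_iso (R.isoRightDerivedObj (CohTop.push f) n) fun k => h k n) q
  obtain ⟨e₁⟩ := nonempty_homology_iso R q
  obtain ⟨e₂⟩ := nonempty_H_iso_HU F q
  refine ⟨e₂.symm.trans (Iso.addCommGroupIsoToAddEquiv ?_)⟩
  exact ((evaluation _ AddCommGrpCat.{u}).obj (op (⊤ : Opens X))).mapIso e₁.symm ≪≫
    (((secComplex R).sc q).mapHomologyIso ((evaluation _ AddCommGrpCat.{u}).obj (op (⊤ : Opens X)))).symm ≪≫
    e ≪≫ Gamma.mapIso (R.isoRightDerivedObj (CohTop.push f) q).symm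

end Groth.Agent.Lead.Flasque.Top
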