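import Mathlib.Algebra.Homology.DerivedCategory.Ext.EnoughInjectives
import Mathlib.Algebra.Homology.DerivedCategory.Ext.ExactSequences
import Mathlib.GroupTheory.QuotientGroup.Basic

/-!
Comparison of `Ext` groups along an exact functor by dimension shifting.
-/

set_option autoImplicit false

universe w w' v v' u u'

open CategoryTheory Limits Abelian

namespace Groth.Agent.Lead.Flasque.DimShift

variable {A : Type u} [Category.{v} A] [Abelian A] [HasExt.{w} A] {X : A}

/-- connecting homomorphism in degree `0` -/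
noncomputable def delta {S : ShortComplex A} (hS : S.ShortExact) : (X ⟶ S.X₃) →+ Ext X S.X₁ 1 :=
  AddMonoidHom.mk' (fun f => (Ext.mk₀ f).comp hS.extClass (zero_add 1)) fun a b => by
    simp only [Ext.mk₀_add, Ext.add_comp]

theorem delta_eq_zero_iff {S : ShortComplex A} (hS : S.ShortExact) (f : X ⟶ S.X₃) :
    delta hS f = 0 ↔ ∃ g : X ⟶ S.X₂, g ≫ S.g = f := by
  constructor
  · intro hf
    obtain ⟨x₂, hx⟩ := Ext.covariant_sequence_exact₃ X hS (Ext.mk₀ f) (zero_add 1) hf
    obtain ⟨g, rfl⟩ := Ext.homEquiv₀.symm.surjective x₂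
    refine ⟨g, (Ext.mk₀_bijective X S.X₃).1 ?_⟩
    rw [← Ext.mk₀_comp_mk₀]
    exact hx
  · rintro ⟨g, rfl⟩
    show (Ext.mk₀ (g ≫ S.g)).comp hS.extClass (zero_add 1) = 0
    rw [← Ext.mk₀_comp_mk₀_assoc, hS.comp_extClass, Ext.comp_zero]

theorem delta_surjective {S : ShortComplex A} (hS : S.ShortExact) (h : Subsingleton (Ext X S.X₂ 1)) :
    Function.Surjective (delta (X := X) hS) := fun x => by
  obtain ⟨x₃, rfl⟩ := Ext.covariant_sequence_exact₁ X hS x (Subsingleton.elim _ _) (zero_add 1)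
  obtain ⟨f, rfl⟩ := Ext.homEquiv₀.symm.surjective x₃
  exact ⟨f, rfl⟩

theorem nonempty_shift {S : ShortComplex A} (hS : S.ShortExact) (n : ℕ)
    (h : ∀ k : ℕ, Subsingleton (Ext X S.X₂ (k + 1))) : Nonempty (Ext X S.X₃ (n + 1) ≃+ Ext X S.X₁ (n + 2)) := by
  refine ⟨AddEquiv.ofBijective (hS.extClass.postcomp X rfl) ⟨?_, fun x => ?_⟩⟩
  · refine (injective_iff_map_eq_zero _).2 fun a ha => ?_
    obtain ⟨x₂, rfl⟩ := Ext.covariant_sequence_exact₃ X hS a rfl ha
    haveI := h n
    rw [Subsingleton.elim x₂ 0, Ext.zero_comp]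
  · haveI := h (n + 1)
    exact Ext.covariant_sequence_exact₁ X hS x (Subsingleton.elim _ _) rfl

/-- Transport of `Ext` along an exact functor `G` given a natural iso on homs and acyclicity of images of injectives. -/
theorem nonempty_extEquiv [EnoughInjectives A] {B : Type u'} [Category.{v'} B] [Abelian B] [HasExt.{w'} B] (G : A ⥤ B)
    [G.Additive] [PreservesFiniteLimits G] [PreservesFiniteColimits G] {X' : B}
    (e : ∀ Z : A, (X ⟶ Z) ≃+ (X' ⟶ G.obj Z))
    (he : ∀ {Z Z' : A} (g : X ⟶ Z) (φ : Z ⟶ Z'), e Z' (g ≫ φ) = e Z g ≫ G.map φ)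
    (hacyc : ∀ J : A, Injective J → ∀ k : ℕ, Subsingleton (Ext X' (G.obj J) (k + 1))) :
    ∀ (n : ℕ) (Y : A), Nonempty (Ext X Y n ≃+ Ext X' (G.obj Y) n) := by
  intro n
  induction n with
  | zero => exact fun Y => ⟨Ext.addEquiv₀.trans ((e Y).trans Ext.addEquiv₀.symm)⟩
  | succ n ih =>
    intro Y
    let S : ShortComplex A := ShortComplex.mk (Injective.ι Y) (cokernel.π (Injective.ι Y)) (cokernel.condition _)
    have hS : S.ShortExact :=
      ShortComplex.ShortExact.mk' (ShortComplex.exact_of_g_is_cokernel _ (cokernelIsCokernel _))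
        (inferInstance : Mono (Injective.ι Y)) (inferInstance : Epi (cokernel.π (Injective.ι Y)))
    haveI : Injective S.X₂ := (inferInstance : Injective (Injective.under Y))
    have hS' : (S.map G).ShortExact := hS.map_of_exact G
    have h₂ : ∀ k : ℕ, Subsingleton (Ext X S.X₂ (k + 1)) := fun k =>
      subsingleton_of_forall_eq 0 fun x => Ext.eq_zero_of_injective x
    have h₂' : ∀ k : ℕ, Subsingleton (Ext X' (S.map G).X₂ (k + 1)) := hacyc S.X₂ inferInstance
    cases n with
    | zero =>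
      let Φ : (X ⟶ S.X₃) →+ Ext X' (G.obj Y) 1 := (delta hS').comp (e S.X₃).toAddMonoidHom
      have hΦ : Function.Surjective Φ := (delta_surjective hS' (h₂' 0)).comp (e S.X₃).surjective
      have hker : (delta (X := X) hS).ker = Φ.ker := by
        ext f
        show delta hS f = 0 ↔ delta hS' (e S.X₃ f) = 0
        rw [delta_eq_zero_iff, delta_eq_zero_iff]
        constructor
        · rintro ⟨g, rfl⟩
          exact ⟨e _ g, (he g S.g).symm⟩
        · rintro ⟨g, hg⟩
          obtain ⟨g', rfl⟩ := (e S.X₂).surjective g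
          exact ⟨g', (e S.X₃).injective ((he g' S.g).trans hg)⟩
      exact ⟨(QuotientAddGroup.quotientKerEquivOfSurjective _ (delta_surjective hS (h₂ 0))).symm.trans
        ((QuotientAddGroup.quotientAddEquivOfEq hker).trans (QuotientAddGroup.quotientKerEquivOfSurjective _ hΦ))⟩
    | succ m =>
      obtain ⟨a⟩ := nonempty_shift hS m h₂
      obtain ⟨b⟩ := nonempty_shift hS' m h₂'
      obtain ⟨c⟩ := ih S.X₃
      exact ⟨a.symm.trans (c.trans b)⟩

end Groth.Agent.Lead.Flasque.DimShift
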