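import Mathlib.Algebra.Homology.DerivedCategory.Ext.EnoughInjectives
import Mathlib.Algebra.Homology.DerivedCategory.Ext.ExactSequences
import Mathlib.CategoryTheory.Abelian.Refinements

/-!
Vanishing of higher `Ext` from an extension property on a class of objects with enough covers.
-/

set_option autoImplicit false

universe w v u

open CategoryTheory Limits Abelian

namespace Groth.Agent.Lead.Flasque

variable {A : Type u} [Category.{v} A] [Abelian A] [HasExt.{w} A] [EnoughInjectives A]

/-- every class of positive degree is killed by an epimorphism onto its source -/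
theorem exists_epi_kill : ∀ (n : ℕ) {X H : A} (x : Ext X H (n + 1)),
    ∃ (B : A) (π : B ⟶ X), Epi π ∧ (Ext.mk₀ π).comp x (zero_add _) = 0 := by
  intro n
  induction n with
  | zero =>
    intro X H x
    let S : ShortComplex A := ShortComplex.mk (Injective.ι H) (cokernel.π (Injective.ι H)) (cokernel.condition _)
    have hS : S.ShortExact :=
      ShortComplex.ShortExact.mk' (ShortComplex.exact_of_g_is_cokernel _ (cokernelIsCokernel _))
        (inferInstance : Mono (Injective.ι H)) (inferInstance : Epi (cokernel.π (Injective.ι H)))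
    haveI : Injective S.X₂ := (inferInstance : Injective (Injective.under H))
    obtain ⟨x₃, rfl⟩ := Ext.covariant_sequence_exact₁ X hS x (Ext.eq_zero_of_injective _) (zero_add 1)
    obtain ⟨f, rfl⟩ := Ext.homEquiv₀.symm.surjective x₃
    haveI := hS.epi_g
    refine ⟨pullback f S.g, pullback.fst f S.g, inferInstance, ?_⟩
    show (Ext.mk₀ (pullback.fst f S.g)).comp ((Ext.mk₀ f).comp hS.extClass _) _ = 0
    rw [Ext.mk₀_comp_mk₀_assoc, pullback.condition, ← Ext.mk₀_comp_mk₀_assoc, hS.comp_extClass, Ext.comp_zero]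
  | succ n ih =>
    intro X H x
    let S : ShortComplex A := ShortComplex.mk (Injective.ι H) (cokernel.π (Injective.ι H)) (cokernel.condition _)
    have hS : S.ShortExact :=
      ShortComplex.ShortExact.mk' (ShortComplex.exact_of_g_is_cokernel _ (cokernelIsCokernel _))
        (inferInstance : Mono (Injective.ι H)) (inferInstance : Epi (cokernel.π (Injective.ι H)))
    haveI : Injective S.X₂ := (inferInstance : Injective (Injective.under H))
    obtain ⟨x₃, rfl⟩ := Ext.covariant_sequence_exact₁ X hS x (Ext.eq_zero_of_injective _) (n₀ := n + 1) rfl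
    obtain ⟨B, π, hπ, h⟩ := ih x₃
    refine ⟨B, π, hπ, ?_⟩
    rw [← Ext.comp_assoc (a₁₂ := n + 1) _ _ _ (zero_add _) rfl (by omega), h, Ext.zero_comp]

/-- If `P` is closed under subobjects and has enough covers, and maps into `H` extend along monos with
cokernel in `P`, then `Ext^{n+1}(X, H) = 0` for `X` in `P`. -/
theorem subsingleton_ext (P : ObjectProperty A) (hsub : ∀ {M E : A} (i : M ⟶ E) [Mono i], P E → P M)
    (hcover : ∀ B : A, ∃ (P' : A) (c : P' ⟶ B), Epi c ∧ P P') (H : A)
    (hext : ∀ {M E : A} (i : M ⟶ E) [Mono i], P (cokernel i) → ∀ g : M ⟶ H, ∃ r : E ⟶ H, i ≫ r = g) :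
    ∀ (n : ℕ) {X : A}, P X → Subsingleton (Ext X H (n + 1)) := by
  intro n
  induction n with
  | zero =>
    intro X hX
    refine subsingleton_of_forall_eq 0 fun x => ?_
    obtain ⟨B, π₀, hπ₀, hx₀⟩ := exists_epi_kill 0 x
    obtain ⟨P', c, hc, hP'⟩ := hcover B
    haveI : Epi (c ≫ π₀) := epi_comp c π₀
    let S : ShortComplex A := ShortComplex.mk (kernel.ι (c ≫ π₀)) (c ≫ π₀) (kernel.condition _)
    have hS : S.ShortExact :=
      ShortComplex.ShortExact.mk' (ShortComplex.exact_of_f_is_kernel _ (kernelIsKernel _))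
        (inferInstance : Mono (kernel.ι (c ≫ π₀))) (inferInstance : Epi (c ≫ π₀))
    have hx : (Ext.mk₀ S.g).comp x (zero_add _) = 0 := by
      show (Ext.mk₀ (c ≫ π₀)).comp x _ = 0
      rw [← Ext.mk₀_comp_mk₀_assoc, hx₀, Ext.comp_zero]
    obtain ⟨x₁, rfl⟩ := Ext.contravariant_sequence_exact₃ hS H x hx (n₀ := 0) (by omega)
    obtain ⟨g, rfl⟩ := Ext.homEquiv₀.symm.surjective x₁
    haveI := hS.mono_f
    obtain ⟨r, rfl⟩ := hext S.f
      (hsub ((cokernelIsCokernel S.f).coconePointUniqueUpToIso hS.gIsCokernel).hom hX) g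
    show hS.extClass.comp (Ext.mk₀ (S.f ≫ r)) _ = 0
    rw [← Ext.mk₀_comp_mk₀, hS.extClass_comp_assoc]
  | succ n ih =>
    intro X hX
    refine subsingleton_of_forall_eq 0 fun x => ?_
    obtain ⟨B, π₀, hπ₀, hx₀⟩ := exists_epi_kill (n + 1) x
    obtain ⟨P', c, hc, hP'⟩ := hcover B
    haveI : Epi (c ≫ π₀) := epi_comp c π₀
    let S : ShortComplex A := ShortComplex.mk (kernel.ι (c ≫ π₀)) (c ≫ π₀) (kernel.condition _)
    have hS : S.ShortExact :=
      ShortComplex.ShortExact.mk' (ShortComplex.exact_of_f_is_kernel _ (kernelIsKernel _))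
        (inferInstance : Mono (kernel.ι (c ≫ π₀))) (inferInstance : Epi (c ≫ π₀))
    have hx : (Ext.mk₀ S.g).comp x (zero_add _) = 0 := by
      show (Ext.mk₀ (c ≫ π₀)).comp x _ = 0
      rw [← Ext.mk₀_comp_mk₀_assoc, hx₀, Ext.comp_zero]
    obtain ⟨x₁, rfl⟩ := Ext.contravariant_sequence_exact₃ hS H x hx (n₀ := n + 1) (by omega)
    haveI := ih (hsub (kernel.ι (c ≫ π₀)) hP')
    rw [show x₁ = 0 from Subsingleton.elim (α := Ext (kernel (c ≫ π₀)) H (n + 1)) x₁ 0, Ext.comp_zero]

end Groth.Agent.Lead.Flasque
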