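import Mathlib.CategoryTheory.Abelian.Injective.Ext
import Mathlib.CategoryTheory.Abelian.Injective.Resolution
import Mathlib.CategoryTheory.Abelian.RightDerived
import Mathlib.GroupTheory.QuotientGroup.Basic

/-!
Comparison of `Ext` groups computed by injective resolutions.
-/

set_option autoImplicit false

universe w w' v v' u u'

open CategoryTheory Limits Abelian CochainComplex

namespace Groth.Agent.Lead.Flasque.ExtCompute

variable {A : Type u} [Category.{v} A] [Abelian A] [HasExt.{w} A] {X Y : A} (R : InjectiveResolution Y)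

theorem extMk_eq_zero_iff_zero (f : X ⟶ R.cocomplex.X 0) (hf : f ≫ R.cocomplex.d 0 1 = 0) :
    R.extMk f 1 rfl hf = 0 ↔ f = 0 := by
  constructor
  · intro h
    rw [← R.extEquivCohomologyClass.apply_eq_iff_eq, R.extEquivCohomologyClass_extMk,
      R.extEquivCohomologyClass_zero, HomComplex.CohomologyClass.mk_eq_zero_iff,
      HomComplex.Cocycle.fromSingleMk_mem_coboundaries_iff _ _ _ _ _ (-1) (by simp)] at h
    obtain ⟨g, hg⟩ := h
    have hz : IsZero (R.cochainComplex.X (-1)) := R.cochainComplex.isZero_of_isStrictlyGE 0 (-1) (by simp)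
    rw [hz.eq_of_tgt g 0, zero_comp] at hg
    exact (cancel_mono (R.cochainComplexXIso ((0 : ℕ) : ℤ) 0 rfl).inv).1 (hg.symm.trans zero_comp.symm)
  · rintro rfl
    exact R.extMk_zero 1 rfl

/-- cocycles -/
noncomputable abbrev cocycles (X : A) (n : ℕ) : AddSubgroup (X ⟶ R.cocomplex.X n) :=
  (Preadditive.rightComp X (R.cocomplex.d n (n + 1))).ker

/-- cocycles to `Ext` -/
noncomputable def toExt (n : ℕ) : cocycles R X n →+ Ext X Y n :=
  AddMonoidHom.mk' (fun z => R.extMk z.1 (n + 1) rfl z.2) fun a b => (R.add_extMk _ _ (n + 1) rfl a.2 b.2).symm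

theorem toExt_surjective (n : ℕ) : Function.Surjective (toExt (X := X) R n) := fun x => by
  obtain ⟨f, hf, rfl⟩ := R.extMk_surjective x (n + 1) rfl
  exact ⟨⟨f, hf⟩, rfl⟩

variable {B : Type u'} [Category.{v'} B] [Abelian B] [HasExt.{w'} B] {X' Y' : B} (R' : InjectiveResolution Y')

/-- A compatible family of isomorphisms on cochains induces an isomorphism on `Ext`. -/
theorem nonempty_extCongr (e : ∀ n : ℕ, (X ⟶ R.cocomplex.X n) ≃+ (X' ⟶ R'.cocomplex.X n))
    (he : ∀ (n : ℕ) (f : X ⟶ R.cocomplex.X n),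
      e (n + 1) (f ≫ R.cocomplex.d n (n + 1)) = e n f ≫ R'.cocomplex.d n (n + 1)) (n : ℕ) :
    Nonempty (Ext X Y n ≃+ Ext X' Y' n) := by
  have hmem : ∀ f, f ∈ cocycles R X n ↔ e n f ∈ cocycles R' X' n := fun f => by
    show f ≫ R.cocomplex.d n (n + 1) = 0 ↔ e n f ≫ R'.cocomplex.d n (n + 1) = 0
    rw [← he, AddEquiv.map_eq_zero_iff]
  let g : cocycles R X n →+ cocycles R' X' n :=
    AddMonoidHom.mk' (fun z => ⟨e n z.1, (hmem _).1 z.2⟩) fun a b => Subtype.ext (map_add (e n) a.1 b.1)
  have hg : Function.Surjective g := fun z =>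
    ⟨⟨(e n).symm z.1, (hmem _).2 (by rw [AddEquiv.apply_symm_apply]; exact z.2)⟩, Subtype.ext ((e n).apply_symm_apply _)⟩
  let Φ : cocycles R X n →+ Ext X' Y' n := (toExt R' n).comp g
  have hΦ : Function.Surjective Φ := (toExt_surjective R' n).comp hg
  have hker : (toExt (X := X) R n).ker = Φ.ker := by
    ext ⟨f, hf⟩
    show R.extMk f (n + 1) rfl hf = 0 ↔ R'.extMk (e n f) (n + 1) rfl ((hmem f).1 hf) = 0
    cases n with
    | zero =>
      rw [extMk_eq_zero_iff_zero, extMk_eq_zero_iff_zero, AddEquiv.map_eq_zero_iff]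
    | succ m =>
      rw [R.extMk_eq_zero_iff _ _ _ _ m rfl, R'.extMk_eq_zero_iff _ _ _ _ m rfl]
      constructor
      · rintro ⟨x, rfl⟩
        exact ⟨e m x, (he m x).symm⟩
      · rintro ⟨x, hx⟩
        exact ⟨(e m).symm x, (e (m + 1)).injective (by rw [he, AddEquiv.apply_symm_apply, hx])⟩
  exact ⟨(QuotientAddGroup.quotientKerEquivOfSurjective _ (toExt_surjective R n)).symm.trans
    ((QuotientAddGroup.quotientAddEquivOfEq hker).trans (QuotientAddGroup.quotientKerEquivOfSurjective _ hΦ))⟩

omit [HasExt.{w} A] [HasExt.{w'} B] in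
/-- The image of an injective resolution under a left exact functor with vanishing higher derived functors. -/
theorem nonempty_mapResolution [EnoughInjectives A] (F : A ⥤ B) [F.Additive] [PreservesFiniteLimits F]
    (hinj : ∀ J : A, Injective J → Injective (F.obj J)) (hz : ∀ q : ℕ, IsZero ((F.rightDerived (q + 1)).obj Y)) :
    ∃ R' : InjectiveResolution (F.obj Y), R'.cocomplex = (F.mapHomologicalComplex (ComplexShape.up ℕ)).obj R.cocomplex := by
  haveI : F.PreservesMonomorphisms := preservesMonomorphisms_of_preservesLimitsOfShape F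
  refine ⟨
    { cocomplex := (F.mapHomologicalComplex (ComplexShape.up ℕ)).obj R.cocomplex
      injective := fun n => hinj _ (R.injective n)
      ι := (CochainComplex.fromSingle₀Equiv _ _).symm ⟨F.map (R.ι.f 0), by
        exact (F.map_comp _ _).symm.trans ((congrArg F.map R.ι_f_zero_comp_complex_d).trans (F.map_zero _ _))⟩
      quasiIso := ⟨fun n => ?_⟩ }, rfl⟩
  cases n with
  | zero =>
    rw [CochainComplex.quasiIsoAt₀_iff, ShortComplex.quasiIso_iff_of_zeros]
    · have hS : (ShortComplex.mk (R.ι.f 0) (R.cocomplex.d 0 1) R.ι_f_zero_comp_complex_d).Exact :=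
        ShortComplex.exact_of_f_is_kernel _ R.isLimitKernelFork
      refine ⟨?_, ?_⟩
      · refine (ShortComplex.exact_iff_of_iso ?_).1 (hS.map_of_mono_of_preservesKernel F inferInstance inferInstance)
        exact ShortComplex.isoMk (Iso.refl _) (Iso.refl _) (Iso.refl _) (by simp; exact (Category.id_comp _).trans (Category.comp_id _).symm) (by simp; exact (Category.id_comp _).trans (Category.comp_id _).symm)
      · simp only [HomologicalComplex.shortComplexFunctor'_map_τ₂]
        simp
        exact F.map_mono (R.ι.f 0)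
    all_goals first | rfl | (simp; rfl) | simp
  | succ n =>
    rw [quasiIsoAt_iff_exactAt]
    · exact (HomologicalComplex.exactAt_iff_isZero_homology _ _).2 ((hz n).of_iso (R.isoRightDerivedObj F (n + 1)).symm)
    · apply CochainComplex.exactAt_succ_single_obj

end Groth.Agent.Lead.Flasque.ExtCompute
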