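import Groth.Agent.Lead.Flasque.Top
import Mathlib.CategoryTheory.Abelian.RightDerived
import Mathlib.CategoryTheory.Sites.LocallyBijective
import Mathlib.Topology.Sheaves.AddCommGrpCat

/-!
Higher direct images of flasque sheaves vanish.
-/

set_option autoImplicit false

universe u

open CategoryTheory Limits Opposite TopologicalSpace

namespace Groth.Agent.Lead.Flasque.Top

theorem isFlasque_of_iso {X : TopCat.{u}} {F G : CohTop.Ab X} (e : F ≅ G) [TopCat.Sheaf.IsFlasque F] :
    TopCat.Sheaf.IsFlasque G := by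
  constructor
  intro U V i
  have h : G.obj.map i = (e.inv.hom.app U ≫ F.obj.map i) ≫ e.hom.hom.app V := by
    rw [← e.inv.hom.naturality i, Category.assoc, ← NatTrans.comp_app, ← ObjectProperty.FullSubcategory.comp_hom,
      e.inv_hom_id]
    exact (Category.comp_id _).symm
  haveI : IsIso (e.inv.hom.app U) := ((sheafToPresheaf _ _).mapIso e).app U |>.isIso_inv
  haveI : IsIso (e.hom.hom.app V) := ((sheafToPresheaf _ _).mapIso e).app V |>.isIso_hom
  rw [h]
  infer_instance

theorem exact_of_sections {X : TopCat.{u}} (S : ShortComplex (CohTop.Ab X))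
    (h : ∀ (U : Opens X) (s : S.X₂.obj.obj (op U)), S.g.hom.app (op U) s = 0 →
      ∃ t : S.X₁.obj.obj (op U), S.f.hom.app (op U) t = s) : S.Exact := by
  rw [ShortComplex.exact_iff_epi_kernel_lift]
  refine (TopCat.Sheaf.isLocallySurjective_iff_epi (X := X) _).1 ((TopCat.Presheaf.isLocallySurjective_iff _).2 ?_)
  intro U s x hx
  let ι := (kernel.ι S.g).hom.app (op U)
  obtain ⟨t, ht⟩ := h U (ι s) (by
    have e : (kernel.ι S.g ≫ S.g).hom.app (op U) = (0 : kernel S.g ⟶ S.X₃).hom.app (op U) := by rw [kernel.condition]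
    exact ConcreteCategory.congr_hom e s)
  refine ⟨U, le_rfl, ⟨t, ?_⟩, hx⟩
  haveI : Mono ((sheafToPresheaf _ AddCommGrpCat.{u}).map (kernel.ι S.g)) := inferInstance
  haveI : Mono ((kernel.ι S.g).hom.app (op U)) :=
    inferInstanceAs (Mono (((sheafToPresheaf _ AddCommGrpCat.{u}).map (kernel.ι S.g)).app (op U)))
  refine (AddCommGrpCat.mono_iff_injective _).1 ‹Mono ((kernel.ι S.g).hom.app (op U))› ?_
  refine Eq.trans ?_ (congrArg ι (ConcreteCategory.congr_hom ((kernel S.g).obj.map_id (op U)) s).symm)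
  refine Eq.trans ?_ ht
  show ((kernel.lift S.g S.f S.zero ≫ kernel.ι S.g).hom.app (op U)) t = _
  rw [kernel.lift_ι]

variable {X Y : TopCat.{u}}

theorem isFlasque_kernel_d {F : CohTop.Ab X} [TopCat.Sheaf.IsFlasque F] (I : InjectiveResolution F) (n : ℕ) :
    TopCat.Sheaf.IsFlasque (kernel (I.cocomplex.d n (n + 1))) := by
  induction n with
  | zero => exact @isFlasque_of_iso X F _ (IsLimit.conePointUniqueUpToIso I.isLimitKernelFork (limit.isLimit (parallelPair (I.cocomplex.d 0 1) 0))) inferInstance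
  | succ n ih =>
    let g := kernel.lift (I.cocomplex.d (n + 1) (n + 2)) (I.cocomplex.d n (n + 1)) (I.cocomplex.d_comp_d _ _ _)
    let S : ShortComplex (CohTop.Ab X) := ShortComplex.mk (kernel.ι (I.cocomplex.d n (n + 1))) g (by
      rw [← cancel_mono (kernel.ι _), Category.assoc, kernel.lift_ι, kernel.condition, zero_comp])
    have hg : Epi g := (ShortComplex.exact_iff_epi_kernel_lift _).1 (I.exact_succ n)
    have hk : IsLimit (KernelFork.ofι (kernel.ι (I.cocomplex.d n (n + 1))) S.zero) :=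
      KernelFork.IsLimit.ofι' _ _ fun {W} k hk => by
        refine ⟨kernel.lift _ k ?_, kernel.lift_ι _ _ _⟩
        have := congrArg (· ≫ kernel.ι _) hk
        simpa [g, S, Category.assoc] using this
    have hS : S.ShortExact :=
      ShortComplex.ShortExact.mk' (ShortComplex.exact_of_f_is_kernel _ hk)
        (inferInstance : Mono (kernel.ι (I.cocomplex.d n (n + 1)))) hg
    haveI : TopCat.Sheaf.IsFlasque S.X₁ := ih
    haveI : TopCat.Sheaf.IsFlasque S.X₂ := isFlasque_of_injective (I.cocomplex.X n)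
    exact TopCat.Sheaf.IsFlasque.of_shortExact_of_isFlasque₁₂ hS

theorem isZero_Rpush (f : X ⟶ Y) (F : CohTop.Ab X) [TopCat.Sheaf.IsFlasque F] (q : ℕ) :
    IsZero ((CohTop.Rpush f (q + 1)).obj F) := by
  let I := injectiveResolution F
  refine IsZero.of_iso ?_ (I.isoRightDerivedObj (CohTop.push f) (q + 1))
  refine (HomologicalComplex.exactAt_iff_isZero_homology _ _).1 ?_
  rw [HomologicalComplex.exactAt_iff' _ q (q + 1) (q + 2) (by simp) (by simp only [CochainComplex.next]; rfl)]
  refine exact_of_sections _ fun U s hs => ?_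
  let d₁ := I.cocomplex.d q (q + 1)
  let d₂ := I.cocomplex.d (q + 1) (q + 2)
  let V : Opens X := (Opens.map f).obj U
  let g := kernel.lift d₂ d₁ (I.cocomplex.d_comp_d _ _ _)
  let S : ShortComplex (CohTop.Ab X) := ShortComplex.mk (kernel.ι d₁) g (by
    rw [← cancel_mono (kernel.ι _), Category.assoc, kernel.lift_ι, kernel.condition, zero_comp])
  have hg : Epi g := (ShortComplex.exact_iff_epi_kernel_lift _).1 (I.exact_succ q)
  have hk : IsLimit (KernelFork.ofι (kernel.ι d₁) S.zero) :=
    KernelFork.IsLimit.ofι' _ _ fun {W} k hk => by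
      refine ⟨kernel.lift _ k ?_, kernel.lift_ι _ _ _⟩
      have := congrArg (· ≫ kernel.ι _) hk
      simpa [g, S, Category.assoc] using this
  have hS : S.ShortExact :=
    ShortComplex.ShortExact.mk' (ShortComplex.exact_of_f_is_kernel _ hk) (inferInstance : Mono (kernel.ι d₁)) hg
  haveI : TopCat.Sheaf.IsFlasque S.X₁ := isFlasque_kernel_d I q
  let K : ShortComplex (CohTop.Ab X) := ShortComplex.mk (kernel.ι d₂) d₂ (kernel.condition _)
  obtain ⟨z, hz⟩ := TopCat.Sheaf.sections_exact_of_left_exact (S := K) (ShortComplex.exact_of_f_is_kernel _ (kernelIsKernel _))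
    (inferInstanceAs (Mono (kernel.ι d₂))) (U := V) s hs
  obtain ⟨t, ht⟩ := (AddCommGrpCat.epi_iff_surjective _).1 (TopCat.Sheaf.IsFlasque.epi_of_shortExact (U := V) hS) z
  refine ⟨t, ?_⟩
  refine Eq.trans ?_ hz
  rw [← ht]
  show (d₁).hom.app (op V) t = ((g ≫ kernel.ι d₂).hom.app (op V)) t
  rw [kernel.lift_ι]

end Groth.Agent.Lead.Flasque.Top
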