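import Groth.Agent.Lead.Flasque.ExtCompute
import Groth.Agent.Lead.Flasque.Restr

/-!
Higher direct images commute with restriction to an open of the base.
-/

set_option autoImplicit false

universe u

open CategoryTheory Limits Opposite TopologicalSpace

namespace Groth.Agent.Lead.Flasque.Top

variable {X Y : TopCat.{u}} (f : X ⟶ Y) (V : Opens Y)

/-- the restricted map -/
abbrev restrMap : TopCat.of ((Opens.map f).obj V) ⟶ TopCat.of V :=
  TopCat.ofHom ⟨(V : Set Y).restrictPreimage f, f.hom.continuous.restrictPreimage⟩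

theorem nonempty_push_restr_natIso :
    Nonempty (CohTop.push f ⋙ CohTop.restrFunctor V ≅
      CohTop.restrFunctor ((Opens.map f).obj V) ⋙ CohTop.push (restrMap f V)) := by
  have key : ∀ W : Opens (TopCat.of V),
      (Opens.map f).obj (V.isOpenEmbedding.isOpenMap.functor.obj W) =
        ((Opens.map f).obj V).isOpenEmbedding.isOpenMap.functor.obj ((Opens.map (restrMap f V)).obj W) := by
    intro W
    ext x
    constructor
    · rintro ⟨w, hw, hwx⟩
      have hx : f x ∈ V := hwx ▸ w.2
      exact ⟨⟨x, hx⟩, (show (⟨f x, hx⟩ : V) ∈ W from (Subtype.ext hwx.symm : (⟨f x, hx⟩ : V) = w) ▸ hw), rfl⟩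
    · rintro ⟨z, hz, rfl⟩
      exact ⟨_, hz, rfl⟩
  refine ⟨NatIso.ofComponents (fun G => (sheafToPresheaf _ _).preimageIso
    (NatIso.ofComponents (fun W => G.obj.mapIso (eqToIso (key W.unop).symm).op) (fun {W W'} i => ?_))) (fun {G G'} φ => ?_)⟩
  · show G.obj.map _ ≫ G.obj.map _ = G.obj.map _ ≫ G.obj.map _
    rw [← G.obj.map_comp, ← G.obj.map_comp]
    rfl
  · apply (sheafToPresheaf _ _).map_injective
    simp only [Functor.map_comp, Functor.preimageIso_hom, Functor.map_preimage]
    ext W : 2
    exact (φ.hom.naturality _).symm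

theorem nonempty_Rpush_restr (F : CohTop.Ab X) (p : ℕ) :
    Nonempty (CohTop.restr ((CohTop.Rpush f p).obj F) V ≅
      (CohTop.Rpush (restrMap f V) p).obj (CohTop.restr F ((Opens.map f).obj V))) := by
  obtain ⟨hl, hc, _⟩ := restr_props V
  obtain ⟨hl', hc', hinj⟩ := restr_props ((Opens.map f).obj V)
  let R := injectiveResolution F
  let ρ := CohTop.restrFunctor ((Opens.map f).obj V)
  haveI : ρ.PreservesHomology := inferInstance
  obtain ⟨R', hR'⟩ := ExtCompute.nonempty_mapResolution R ρ hinj (fun q => by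
    refine IsZero.of_iso ?_ (R.isoRightDerivedObj ρ (q + 1))
    refine (HomologicalComplex.exactAt_iff_isZero_homology _ _).1 ?_
    rw [HomologicalComplex.exactAt_iff' _ q (q + 1) (q + 2) (by simp) (by simp only [CochainComplex.next]; rfl)]
    exact (R.exact_succ q).map ρ)
  obtain ⟨θ⟩ := nonempty_push_restr_natIso f V
  haveI : (CohTop.push (restrMap f V)).Additive := ⟨by intros; rfl⟩
  let K := ((CohTop.push f).mapHomologicalComplex (ComplexShape.up ℕ)).obj R.cocomplex
  have e : ((CohTop.restrFunctor V).mapHomologicalComplex (ComplexShape.up ℕ)).obj K ≅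
      ((CohTop.push (restrMap f V)).mapHomologicalComplex (ComplexShape.up ℕ)).obj R'.cocomplex := by
    rw [hR']
    exact (NatIso.mapHomologicalComplex θ (ComplexShape.up ℕ)).app R.cocomplex
  exact ⟨(CohTop.restrFunctor V).mapIso (R.isoRightDerivedObj (CohTop.push f) p) ≪≫
    ((K.sc p).mapHomologyIso (CohTop.restrFunctor V)).symm ≪≫
    (HomologicalComplex.homologyFunctor (CohTop.Ab (TopCat.of V)) (ComplexShape.up ℕ) p).mapIso e ≪≫
    (R'.isoRightDerivedObj (CohTop.push (restrMap f V)) p).symm⟩

end Groth.Agent.Lead.Flasque.Top
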