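import Mathlib.Algebra.Homology.DerivedCategory.Ext.EnoughInjectives
import Mathlib.Algebra.Homology.DerivedCategory.Ext.ExactSequences
import Mathlib.CategoryTheory.Abelian.GrothendieckCategory.EnoughInjectives
import Mathlib.CategoryTheory.Adjunction.Whiskering
import Groth.Prelude.Def_CohTop

/-!
Flasque abelian sheaves on topological spaces are acyclic; injectives are flasque.
-/

set_option autoImplicit false

universe u

open CategoryTheory Limits Opposite TopologicalSpace Abelian

namespace Groth.Agent.Lead.Flasque.Top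

variable {X : TopCat.{u}}

/-- the free abelian sheaf on an open -/
noncomputable abbrev freeSh : Opens X ⥤ CohTop.Ab X :=
  yoneda ⋙ (Functor.whiskeringRight _ _ _).obj AddCommGrpCat.free ⋙ presheafToSheaf _ _

/-- maps out of the free sheaf are sections -/
noncomputable def freeEquiv (U : Opens X) (G : CohTop.Ab X) : (freeSh.obj U ⟶ G) ≃ G.obj.obj (op U) :=
  ((sheafificationAdjunction (Opens.grothendieckTopology X) AddCommGrpCat.{u}).homEquiv _ G).trans
    (((AddCommGrpCat.adj.whiskerRight (Opens X)ᵒᵖ).homEquiv (yoneda.obj U) G.obj).trans yonedaEquiv)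

theorem freeEquiv_comp (U : Opens X) {G G' : CohTop.Ab X} (g : freeSh.obj U ⟶ G) (φ : G ⟶ G') :
    freeEquiv U G' (g ≫ φ) = φ.hom.app (op U) (freeEquiv U G g) := by
  simp only [freeEquiv, Equiv.trans_apply]
  erw [Adjunction.homEquiv_naturality_right, Adjunction.homEquiv_naturality_right, yonedaEquiv_comp]

theorem freeEquiv_map {U V : Opens X} (i : V ⟶ U) (G : CohTop.Ab X) (g : freeSh.obj U ⟶ G) :
    freeEquiv V G (freeSh.map i ≫ g) = G.obj.map i.op (freeEquiv U G g) := by
  simp only [freeEquiv, Equiv.trans_apply]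
  erw [Adjunction.homEquiv_naturality_left, Adjunction.homEquiv_naturality_left]
  exact (yonedaEquiv_naturality _ i).symm

theorem mono_freeSh_map {U V : Opens X} (i : V ⟶ U) : Mono (freeSh.map i) := by
  haveI : Mono (((Functor.whiskeringRight (Opens X)ᵒᵖ (Type u) AddCommGrpCat.{u}).obj AddCommGrpCat.free).map (yoneda.map i)) := by
    haveI : ∀ W, Mono ((((Functor.whiskeringRight (Opens X)ᵒᵖ (Type u) AddCommGrpCat.{u}).obj
        AddCommGrpCat.free).map (yoneda.map i)).app W) := fun W => by
      haveI : Mono ((yoneda.map i).app W) := by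
        rw [mono_iff_injective]
        exact fun a b _ => @Subsingleton.elim (W.unop ⟶ V) _ a b
      show Mono (AddCommGrpCat.free.map ((yoneda.map i).app W))
      infer_instance
    exact NatTrans.mono_of_mono_app _
  exact Functor.map_mono (presheafToSheaf _ _) _

theorem isFlasque_of_injective (F : CohTop.Ab X) [Injective F] : TopCat.Sheaf.IsFlasque F := by
  constructor
  intro U V i
  rw [AddCommGrpCat.epi_iff_surjective]
  intro s
  haveI := mono_freeSh_map i.unop
  obtain ⟨g, rfl⟩ := (freeEquiv V.unop F).surjective s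
  obtain ⟨r, rfl⟩ : ∃ r, freeSh.map i.unop ≫ r = g := ⟨_, Injective.comp_factorThru g _⟩
  exact ⟨freeEquiv U.unop F r, (freeEquiv_map i.unop F r).symm⟩

/-- `Ext^{n+1}(X₀, F) = 0` for flasque `F` when maps out of `X₀` are sections over `U` -/
theorem subsingleton_ext {X₀ : CohTop.Ab X} (U : Opens X) (e : ∀ G : CohTop.Ab X, (X₀ ⟶ G) ≃ G.obj.obj (op U))
    (he : ∀ {G G' : CohTop.Ab X} (g : X₀ ⟶ G) (φ : G ⟶ G'), e G' (g ≫ φ) = φ.hom.app (op U) (e G g))
    (n : ℕ) : ∀ (F : CohTop.Ab X) [TopCat.Sheaf.IsFlasque F], Subsingleton (Ext X₀ F (n + 1)) := by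
  induction n with
  | zero =>
    intro F hF
    refine subsingleton_of_forall_eq 0 fun x => ?_
    let S : ShortComplex (CohTop.Ab X) := ShortComplex.mk (Injective.ι F) (cokernel.π (Injective.ι F)) (cokernel.condition _)
    have hS : S.ShortExact :=
      ShortComplex.ShortExact.mk' (ShortComplex.exact_of_g_is_cokernel _ (cokernelIsCokernel _))
        (inferInstance : Mono (Injective.ι F)) (inferInstance : Epi (cokernel.π (Injective.ι F)))
    haveI : Injective S.X₂ := (inferInstance : Injective (Injective.under F))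
    haveI : TopCat.Sheaf.IsFlasque S.X₁ := hF
    obtain ⟨x₃, rfl⟩ := Ext.covariant_sequence_exact₁ X₀ hS x (Ext.eq_zero_of_injective _) (zero_add 1)
    obtain ⟨f, rfl⟩ := Ext.homEquiv₀.symm.surjective x₃
    obtain ⟨s, hs⟩ := (AddCommGrpCat.epi_iff_surjective _).1
      (TopCat.Sheaf.IsFlasque.epi_of_shortExact (U := U) hS) (e _ f)
    obtain ⟨g, rfl⟩ : ∃ g : X₀ ⟶ S.X₂, g ≫ S.g = f := by
      refine ⟨(e _).symm s, (e _).injective ?_⟩
      rw [he, Equiv.apply_symm_apply, hs]
    show (Ext.mk₀ (g ≫ S.g)).comp hS.extClass _ = 0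
    rw [← Ext.mk₀_comp_mk₀_assoc, hS.comp_extClass, Ext.comp_zero]
  | succ n ih =>
    intro F hF
    refine subsingleton_of_forall_eq 0 fun x => ?_
    let S : ShortComplex (CohTop.Ab X) := ShortComplex.mk (Injective.ι F) (cokernel.π (Injective.ι F)) (cokernel.condition _)
    have hS : S.ShortExact :=
      ShortComplex.ShortExact.mk' (ShortComplex.exact_of_g_is_cokernel _ (cokernelIsCokernel _))
        (inferInstance : Mono (Injective.ι F)) (inferInstance : Epi (cokernel.π (Injective.ι F)))
    haveI : Injective S.X₂ := (inferInstance : Injective (Injective.under F))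
    haveI : TopCat.Sheaf.IsFlasque S.X₁ := hF
    haveI : TopCat.Sheaf.IsFlasque S.X₂ := isFlasque_of_injective S.X₂
    haveI := TopCat.Sheaf.IsFlasque.of_shortExact_of_isFlasque₁₂ hS
    obtain ⟨x₃, rfl⟩ := Ext.covariant_sequence_exact₁ X₀ hS x (Ext.eq_zero_of_injective _) (n₀ := n + 1) rfl
    haveI := ih S.X₃
    rw [show x₃ = 0 from Subsingleton.elim _ _, Ext.zero_comp]

theorem subsingleton_HU (F : CohTop.Ab X) [TopCat.Sheaf.IsFlasque F] (n : ℕ) (U : Opens X) :
    Subsingleton (CohTop.HU F (n + 1) U) :=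
  subsingleton_ext U (freeEquiv U) (freeEquiv_comp U) n F

theorem isTerminalTop (X : TopCat.{u}) : Nonempty (IsTerminal (⊤ : Opens X)) :=
  ⟨IsTerminal.ofUniqueHom (fun _ => homOfLE le_top) fun _ _ => Subsingleton.elim _ _⟩

theorem subsingleton_H (F : CohTop.Ab X) [TopCat.Sheaf.IsFlasque F] (n : ℕ) :
    Subsingleton (CohTop.H F (n + 1)) := by
  refine subsingleton_ext (⊤ : Opens X) (fun G =>
    ((constantSheafAdj (Opens.grothendieckTopology X) AddCommGrpCat.{u} (isTerminalTop X).some).homEquiv _ G).trans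
      (AddCommGrpCat.uliftZMultiplesAddEquiv _).toEquiv) (fun {G G'} g φ => ?_) n F
  simp only [Equiv.trans_apply, Adjunction.homEquiv_naturality_right]
  rfl

end Groth.Agent.Lead.Flasque.Top
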