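import Groth.Agent.Lead.Flasque.Ext
import Groth.Prelude.Def_CohCx
import Mathlib.Algebra.FreeAbelianGroup.Finsupp
import Mathlib.CategoryTheory.Sites.LeftExact
import Mathlib.CategoryTheory.Sites.Abelian

/-!
Torsion-free abelian sheaves, and a criterion for total acyclicity.
-/

set_option autoImplicit false

universe u

open CategoryTheory Limits Opposite

namespace Groth.Agent.Lead.Flasque

variable {C : Type u} [SmallCategory C] {J : GrothendieckTopology C}

/-- sectionwise torsion-free abelian sheaves -/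
def TF : ObjectProperty (Sheaf J AddCommGrpCat.{u}) := fun A =>
  ∀ (U : Cᵒᵖ) (n : ℤ) (x : A.obj.obj U), n • x = 0 → n = 0 ∨ x = 0

theorem injective_app {M E : Sheaf J AddCommGrpCat.{u}} (i : M ⟶ E) [Mono i] (U : Cᵒᵖ) :
    Function.Injective (i.hom.app U) := by
  haveI : Mono ((sheafToPresheaf J AddCommGrpCat.{u}).map i) := inferInstance
  exact (AddCommGrpCat.mono_iff_injective (((sheafToPresheaf J AddCommGrpCat.{u}).map i).app U)).1 inferInstance

theorem tf_sub {M E : Sheaf J AddCommGrpCat.{u}} (i : M ⟶ E) [Mono i] (h : TF E) : TF M := fun U n x hx => by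
  refine (h U n (i.hom.app U x) ?_).imp_right fun hx0 => injective_app i U (hx0.trans (map_zero (i.hom.app U).hom).symm)
  rw [← map_zsmul (i.hom.app U).hom n x, hx, map_zero]

theorem tf_sheafify (Q : Cᵒᵖ ⥤ AddCommGrpCat.{u})
    (hQ : ∀ (U : Cᵒᵖ) (n : ℤ) (x : Q.obj U), n • x = 0 → n = 0 ∨ x = 0) :
    TF ((presheafToSheaf J AddCommGrpCat.{u}).obj Q) := fun U n x hx => by
  by_cases hn : n = 0
  · exact Or.inl hn
  refine Or.inr ?_
  haveI : ∀ V, Mono ((n • 𝟙 Q : Q ⟶ Q).app V) := fun V => by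
    rw [AddCommGrpCat.mono_iff_injective, injective_iff_map_eq_zero]
    intro y hy
    rw [NatTrans.app_zsmul] at hy
    exact (hQ V n y hy).resolve_left hn
  haveI : Mono (n • 𝟙 Q : Q ⟶ Q) := NatTrans.mono_of_mono_app _
  haveI : (presheafToSheaf J AddCommGrpCat.{u}).Additive :=
    (sheafificationAdjunction J AddCommGrpCat.{u}).left_adjoint_additive
  haveI : PreservesFiniteLimits (presheafToSheaf J AddCommGrpCat.{u}) := inferInstance
  haveI hm : Mono ((presheafToSheaf J AddCommGrpCat.{u}).map (n • 𝟙 Q : Q ⟶ Q)) := inferInstance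
  rw [Functor.map_zsmul, CategoryTheory.Functor.map_id] at hm
  refine @injective_app _ _ _ _ _ (n • 𝟙 ((presheafToSheaf J AddCommGrpCat.{u}).obj Q)) hm U x 0 ?_
  exact Eq.trans hx (map_zero ((n • 𝟙 ((presheafToSheaf J AddCommGrpCat.{u}).obj Q)).hom.app U).hom).symm

theorem free_tf' {α : Type u} (n : ℤ) (x : FreeAbelianGroup α) (hx : n • x = 0) : n = 0 ∨ x = 0 := by
  have h := congrArg (FreeAbelianGroup.equivFinsupp α) hx
  rw [map_zero] at h
  have h' : n • FreeAbelianGroup.equivFinsupp α x = 0 := (map_zsmul _ _ _).symm.trans h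
  exact (smul_eq_zero.1 h').imp_right fun h0 => (FreeAbelianGroup.equivFinsupp α).injective (h0.trans (map_zero _).symm)

theorem free_tf (α : Type u) (n : ℤ) (x : AddCommGrpCat.free.obj α) (hx : n • x = 0) : n = 0 ∨ x = 0 :=
  free_tf' (α := α) n x hx

theorem exists_tf_cover (B : Sheaf J AddCommGrpCat.{u}) :
    ∃ (P' : Sheaf J AddCommGrpCat.{u}) (c : P' ⟶ B), Epi c ∧ TF P' := by
  let G := (presheafToSheaf J AddCommGrpCat.{u})
  let e : B.obj ⋙ forget AddCommGrpCat.{u} ⋙ AddCommGrpCat.free.{u} ⟶ B.obj :=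
    Functor.whiskerLeft B.obj AddCommGrpCat.adj.counit ≫ B.obj.rightUnitor.hom
  haveI : ∀ U, Epi (e.app U) := fun U => by
    rw [AddCommGrpCat.epi_iff_surjective]
    intro y
    refine ⟨FreeAbelianGroup.of y, ?_⟩
    show (AddCommGrpCat.adj.counit.app (B.obj.obj U)) (FreeAbelianGroup.of y) = y
    exact ConcreteCategory.congr_hom (AddCommGrpCat.adj.right_triangle_components (B.obj.obj U)) y
  haveI : Epi e := NatTrans.epi_of_epi_app e
  haveI : G.PreservesEpimorphisms :=
    Functor.preservesEpimorphisms_of_adjunction (sheafificationAdjunction J AddCommGrpCat.{u})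
  refine ⟨G.obj (B.obj ⋙ forget AddCommGrpCat.{u} ⋙ AddCommGrpCat.free.{u}),
    G.map e ≫ (sheafificationAdjunction J AddCommGrpCat.{u}).counit.app B, inferInstance, ?_⟩
  exact tf_sheafify _ fun U n x hx => free_tf _ n x hx

/-- total acyclicity from an extension property -/
theorem isTotallyAcyclic_of_extend (H : Sheaf J AddCommGrpCat.{u})
    (hext : ∀ {M E : Sheaf J AddCommGrpCat.{u}} (i : M ⟶ E) [Mono i], TF (cokernel i) →
      ∀ g : M ⟶ H, ∃ r : E ⟶ H, i ≫ r = g) : CohCx.IsTotallyAcyclic H := by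
  intro K p
  haveI : EnoughInjectives (Sheaf J AddCommGrpCat.{u}) := inferInstance
  exact subsingleton_ext TF (fun i _ h => tf_sub i h) exists_tf_cover H (fun i _ h g => hext i h g) p
    (tf_sheafify _ fun U n x hx => free_tf _ n x hx)

end Groth.Agent.Lead.Flasque
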