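import Groth.Agent.Lead.Flasque.Top
import Mathlib.Algebra.Category.Grp.Limits
import Mathlib.CategoryTheory.Limits.Types.Limits
import Mathlib.Topology.Sheaves.AddCommGrpCat
import Mathlib.CategoryTheory.Sites.LocallyBijective

/-!
Limits of flasque towers of sheaves.
-/

set_option autoImplicit false

universe u

open CategoryTheory Limits Opposite TopologicalSpace

namespace Groth.Agent.Lead.Flasque.Top

variable {X : TopCat.{u}}

/-- sections as types -/
noncomputable abbrev secFun (U : Opens X) : CohTop.Ab X ⥤ Type u :=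
  sheafToPresheaf _ _ ⋙ (evaluation _ AddCommGrpCat.{u}).obj (op U) ⋙ forget _

/-- transition map -/
noncomputable abbrev trans (M : ℕᵒᵖ ⥤ CohTop.Ab X) (n : ℕ) : M.obj (op (n + 1)) ⟶ M.obj (op n) :=
  M.map (homOfLE (Nat.le_succ n)).op

variable {M : ℕᵒᵖ ⥤ CohTop.Ab X}

theorem limit_ext {U : Opens X} (a b : (limit M : CohTop.Ab X).obj.obj (op U))
    (h : ∀ n, (limit.π M (op n)).hom.app (op U) a = (limit.π M (op n)).hom.app (op U) b) : a = b := by
  apply (Types.isLimitEquivSections (isLimitOfPreserves (secFun U) (limit.isLimit M))).injective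
  apply Subtype.ext
  funext j
  simp only [Types.isLimitEquivSections_apply]
  exact h j.unop

theorem exists_section {U : Opens X} (t : ∀ n : ℕ, (M.obj (op n)).obj.obj (op U))
    (ht : ∀ n, (trans M n).hom.app (op U) (t (n + 1)) = t n) :
    ∃ s : (limit M : CohTop.Ab X).obj.obj (op U), ∀ n, (limit.π M (op n)).hom.app (op U) s = t n := by
  have hle : ∀ (k n : ℕ), (secFun U).map (M.map (homOfLE (Nat.le_add_right n k)).op) (t (n + k)) = t n := by
    intro k
    induction k with
    | zero =>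
      intro n
      show (secFun U).map (M.map (𝟙 (op n))) (t n) = t n
      simp
    | succ k ih =>
      intro n
      have e : (homOfLE (Nat.le_add_right n (k + 1))).op =
          (homOfLE (Nat.le_succ (n + k))).op ≫ (homOfLE (Nat.le_add_right n k)).op := rfl
      rw [e, M.map_comp, Functor.map_comp]
      show (secFun U).map (M.map (homOfLE (Nat.le_add_right n k)).op) ((trans M (n + k)).hom.app (op U) (t (n + k + 1))) = t n
      rw [ht, ih]
  let σ : (M ⋙ secFun U).sections := ⟨fun j => t j.unop, fun {i j} f => by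
    obtain ⟨k, hk⟩ := Nat.le.dest (leOfHom f.unop)
    obtain ⟨i⟩ := i
    obtain ⟨j⟩ := j
    subst hk
    exact hle k j⟩
  refine ⟨(Types.isLimitEquivSections (isLimitOfPreserves (secFun U) (limit.isLimit M))).symm σ, fun n => ?_⟩
  exact Types.isLimitEquivSections_symm_apply (isLimitOfPreserves (secFun U) (limit.isLimit M)) σ (op n)

theorem surjective_trans {n : ℕ} (he : Epi (trans M n))
    (hK : TopCat.Sheaf.IsFlasque (kernel (trans M n) : CohTop.Ab X)) (U : Opens X) :
    Function.Surjective ((trans M n).hom.app (op U)) := by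
  let S : ShortComplex (CohTop.Ab X) := ShortComplex.mk (kernel.ι (trans M n)) (trans M n) (kernel.condition _)
  have hS : S.ShortExact :=
    ShortComplex.ShortExact.mk' (ShortComplex.exact_of_f_is_kernel _ (kernelIsKernel _))
      (inferInstance : Mono (kernel.ι (trans M n))) he
  haveI : TopCat.Sheaf.IsFlasque S.X₁ := hK
  exact (AddCommGrpCat.epi_iff_surjective _).1 (TopCat.Sheaf.IsFlasque.epi_of_shortExact (U := U) hS)

theorem restr_surjective {F : CohTop.Ab X} (hF : TopCat.Sheaf.IsFlasque F) {U V : (Opens X)ᵒᵖ} (i : U ⟶ V) :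
    Function.Surjective (F.obj.map i) :=
  (AddCommGrpCat.epi_iff_surjective _).1 (hF.epi i)

theorem isFlasque_limit (h₀ : TopCat.Sheaf.IsFlasque (M.obj (op 0)))
    (he : ∀ n, Epi (trans M n)) (hK : ∀ n, TopCat.Sheaf.IsFlasque (kernel (trans M n) : CohTop.Ab X)) :
    TopCat.Sheaf.IsFlasque (limit M : CohTop.Ab X) := by
  constructor
  rintro ⟨U⟩ ⟨V⟩ i
  rw [AddCommGrpCat.epi_iff_surjective]
  intro s
  let π := fun n => (limit.π M (op n)).hom
  have step : ∀ n (t : (M.obj (op n)).obj.obj (op U)), (M.obj (op n)).obj.map i t = (π n).app (op V) s →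
      ∃ t' : (M.obj (op (n + 1))).obj.obj (op U), (M.obj (op (n + 1))).obj.map i t' = (π (n + 1)).app (op V) s ∧
        (trans M n).hom.app (op U) t' = t := by
    intro n t ht
    obtain ⟨a, rfl⟩ := surjective_trans (he n) (hK n) U t
    rw [← NatTrans.naturality_apply] at ht
    have hw : (trans M n).hom.app (op V) ((π (n + 1)).app (op V) s - (M.obj (op (n + 1))).obj.map i a) = 0 := by
      rw [map_sub, ht, sub_eq_zero]
      exact ConcreteCategory.congr_hom
        (congrArg (fun φ : limit M ⟶ M.obj (op n) => φ.hom.app (op V)) (limit.w M (homOfLE (Nat.le_succ n)).op)) s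
    let Sn : ShortComplex (CohTop.Ab X) := ShortComplex.mk (kernel.ι (trans M n)) (trans M n) (kernel.condition _)
    obtain ⟨k, hk⟩ := TopCat.Sheaf.sections_exact_of_left_exact (S := Sn)
      (ShortComplex.exact_of_f_is_kernel _ (kernelIsKernel _)) (inferInstance : Mono (kernel.ι (trans M n))) (U := V) _ hw
    obtain ⟨k', rfl⟩ := restr_surjective (hK n) i k
    rw [NatTrans.naturality_apply] at hk
    refine ⟨a + (kernel.ι (trans M n)).hom.app (op U) k', ?_, ?_⟩
    · rw [map_add, hk]
      exact add_sub_cancel _ _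
    · have hz : (trans M n).hom.app (op U) ((kernel.ι (trans M n)).hom.app (op U) k') = 0 :=
        ConcreteCategory.congr_hom (congrArg (fun φ : kernel (trans M n) ⟶ M.obj (op n) => φ.hom.app (op U))
          (kernel.condition (trans M n))) k'
      rw [map_add, hz, add_zero]
  obtain ⟨t₀, ht₀⟩ := restr_surjective h₀ i ((π 0).app (op V) s)
  choose nx h₁ h₂ using step
  let T : ∀ n, {t : (M.obj (op n)).obj.obj (op U) // (M.obj (op n)).obj.map i t = (π n).app (op V) s} :=
    fun n => Nat.rec ⟨t₀, ht₀⟩ (fun m p => ⟨nx m p.1 p.2, h₁ m p.1 p.2⟩) n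
  obtain ⟨r, hr⟩ := exists_section (fun n => (T n).1) (fun n => h₂ n (T n).1 (T n).2)
  exact ⟨r, limit_ext _ _ fun n => by rw [NatTrans.naturality_apply, hr]; exact (T n).2⟩

variable {S : ShortComplex (ℕᵒᵖ ⥤ CohTop.Ab X)}

theorem surjective_limMap (hS : S.ShortExact) (h₁ : ∀ n, TopCat.Sheaf.IsFlasque (S.X₁.obj (op n)))
    (he : ∀ n, Epi (trans S.X₁ n)) (hK : ∀ n, TopCat.Sheaf.IsFlasque (kernel (trans S.X₁ n) : CohTop.Ab X))
    (U : Opens X) : Function.Surjective ((limMap S.g).hom.app (op U)) := by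
  intro s
  have hn : ∀ n, (S.map ((evaluation _ _).obj (op n))).ShortExact := fun n => hS.map_of_exact _
  have hsurj : ∀ n, Function.Surjective ((S.g.app (op n)).hom.app (op U)) := fun n => by
    haveI : TopCat.Sheaf.IsFlasque (S.map ((evaluation _ _).obj (op n))).X₁ := h₁ n
    exact (AddCommGrpCat.epi_iff_surjective _).1 (TopCat.Sheaf.IsFlasque.epi_of_shortExact (U := U) (hn n))
  let c := fun n => (limit.π S.X₃ (op n)).hom.app (op U) s
  have nat : ∀ {A B : ℕᵒᵖ ⥤ CohTop.Ab X} (φ : A ⟶ B) (n : ℕ) (x : (A.obj (op (n + 1))).obj.obj (op U)),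
      (trans B n).hom.app (op U) ((φ.app (op (n + 1))).hom.app (op U) x) =
        (φ.app (op n)).hom.app (op U) ((trans A n).hom.app (op U) x) := fun {A B} φ n x =>
    (ConcreteCategory.congr_hom (congrArg (fun ψ : A.obj (op (n + 1)) ⟶ B.obj (op n) => ψ.hom.app (op U))
      (φ.naturality (homOfLE (Nat.le_succ n)).op)) x).symm
  have step : ∀ n (b : (S.X₂.obj (op n)).obj.obj (op U)), (S.g.app (op n)).hom.app (op U) b = c n →
      ∃ b' : (S.X₂.obj (op (n + 1))).obj.obj (op U), (S.g.app (op (n + 1))).hom.app (op U) b' = c (n + 1) ∧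
        (trans S.X₂ n).hom.app (op U) b' = b := by
    intro n b hb
    obtain ⟨b₁, hb₁⟩ := hsurj (n + 1) (c (n + 1))
    have hw : (S.g.app (op n)).hom.app (op U) ((trans S.X₂ n).hom.app (op U) b₁ - b) = 0 := by
      rw [map_sub, ← nat S.g n, hb₁, hb, sub_eq_zero]
      exact ConcreteCategory.congr_hom
        (congrArg (fun φ : limit S.X₃ ⟶ S.X₃.obj (op n) => φ.hom.app (op U)) (limit.w S.X₃ (homOfLE (Nat.le_succ n)).op)) s
    let Sn : ShortComplex (CohTop.Ab X) := S.map ((evaluation _ _).obj (op n))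
    obtain ⟨a, ha⟩ := TopCat.Sheaf.sections_exact_of_left_exact (S := Sn)
      (hn n).exact (hn n).mono_f (U := U) _ hw
    obtain ⟨a', rfl⟩ := surjective_trans (he n) (hK n) U a
    have hz : (S.g.app (op (n + 1))).hom.app (op U) ((S.f.app (op (n + 1))).hom.app (op U) a') = 0 :=
      ConcreteCategory.congr_hom
        (congrArg (fun φ : S.X₁.obj (op (n + 1)) ⟶ S.X₃.obj (op (n + 1)) => φ.hom.app (op U))
          ((NatTrans.congr_app S.zero (op (n + 1))))) a'
    refine ⟨b₁ - (S.f.app (op (n + 1))).hom.app (op U) a', ?_, ?_⟩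
    · rw [map_sub, hz, sub_zero, hb₁]
    · rw [map_sub, nat S.f n]
      exact (congrArg ((trans S.X₂ n).hom.app (op U) b₁ - ·) ha).trans (sub_sub_cancel _ _)
  obtain ⟨b₀, hb₀⟩ := hsurj 0 (c 0)
  choose nx k₁ k₂ using step
  let T : ∀ n, {b : (S.X₂.obj (op n)).obj.obj (op U) // (S.g.app (op n)).hom.app (op U) b = c n} :=
    fun n => Nat.rec ⟨b₀, hb₀⟩ (fun m p => ⟨nx m p.1 p.2, k₁ m p.1 p.2⟩) n
  obtain ⟨r, hr⟩ := exists_section (fun n => (T n).1) (fun n => k₂ n (T n).1 (T n).2)
  refine ⟨r, limit_ext _ _ fun n => ?_⟩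
  refine (ConcreteCategory.congr_hom
    (congrArg (fun φ : limit S.X₂ ⟶ S.X₃.obj (op n) => φ.hom.app (op U)) (limMap_π S.g (op n))) r).trans ?_
  show (S.g.app (op n)).hom.app (op U) ((limit.π S.X₂ (op n)).hom.app (op U) r) = _
  rw [hr]
  exact (T n).2

theorem epi_of_surjective {F G : CohTop.Ab X} (φ : F ⟶ G) (h : ∀ U, Function.Surjective (φ.hom.app (op U))) :
    Epi φ := by
  refine (TopCat.Sheaf.isLocallySurjective_iff_epi (X := X) _).1 ((TopCat.Presheaf.isLocallySurjective_iff _).2 ?_)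
  intro U t x hx
  exact ⟨U, le_rfl, ⟨(h U t).choose, (h U t).choose_spec.trans (ConcreteCategory.congr_hom (G.obj.map_id (op U)) t).symm⟩, hx⟩

end Groth.Agent.Lead.Flasque.Top
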